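import Groth.Agent.L28.DivGen.UnitAt
import Groth.Agent.L23.QFDescent
import Mathlib.RingTheory.Ideal.MinimalPrime.Noetherian
import Mathlib.AlgebraicGeometry.Morphisms.QuasiFinite

/-!
Points of codimension one on étale schemes over a locally factorial scheme.
-/

set_option autoImplicit false
set_option linter.style.haveILetI false
set_option linter.unusedSectionVars false
set_option backward.isDefEq.respectTransparency.types false

universe u

open CategoryTheory CategoryTheory.Limits AlgebraicGeometry Opposite IsLocalRing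
open Groth.L28.Divisor

namespace Groth.L28.DivGen

/-- all local rings of étale schemes are factorial -/
def Fact (X : Scheme.{u}) : Prop := ∀ (V : X.Etale) (v : V.left),
  IsDomain (V.left.presheaf.stalk v) ∧ UniqueFactorizationMonoid (V.left.presheaf.stalk v)

/-- lying over a point of codimension one -/
def CodimOne {X : Scheme.{u}} {W : Scheme.{u}} (f : W ⟶ X) (z : W) : Prop :=
  ringKrullDim (X.presheaf.stalk (f z)) = 1

theorem specializes_of_isUnit {W : Scheme.{u}} [IsAffine W] (z z' : W)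
    (h : ∀ a : Γ(W, ⊤), IsUnit (grm z' a) → IsUnit (grm z a)) : z ⤳ z' := by
  refine specializes_iff_forall_open.2 fun O hO hz' => ?_
  obtain ⟨_, ⟨_, ⟨a, rfl⟩, rfl⟩, ha, hsub⟩ :=
    (isBasis_basicOpen W).exists_subset_of_mem_open hz' hO
  exact hsub ((W.mem_basicOpen_top a z).2 (h a ((W.mem_basicOpen_top a z').1 ha)))

theorem exists_fromSpecStalk {W : Scheme.{u}} {z z' : W} (h : z' ⤳ z) :
    ∃ P, W.fromSpecStalk z P = z' := by
  have : z' ∈ Set.range (W.fromSpecStalk z) := by rw [Scheme.range_fromSpecStalk]; exact h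
  exact this

variable {X : Scheme.{u}} (hfact : Fact X) [IsLocallyNoetherian X]

include hfact in
theorem fact_base (x : X) : IsDomain (X.presheaf.stalk x) ∧ UniqueFactorizationMonoid (X.presheaf.stalk x) :=
  hfact (EtCoh.top X) x

include hfact in
theorem exists_uniformizer_base (x : X) (hx : ringKrullDim (X.presheaf.stalk x) = 1) :
    ∃ π : X.presheaf.stalk x, π ≠ 0 ∧ maximalIdeal (X.presheaf.stalk x) = Ideal.span {π} := by
  obtain ⟨h1, h2⟩ := fact_base hfact x
  have hne : ¬ IsField (X.presheaf.stalk x) := (ringKrullDim_eq_one_iff_of_isLocalRing_isDomain.1 hx).1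
  obtain ⟨π, hπm, hπ⟩ := Ideal.IsPrime.exists_mem_prime_of_ne_bot (I := maximalIdeal (X.presheaf.stalk x))
    inferInstance (fun h => hne (IsLocalRing.isField_iff_maximalIdeal_eq.2 h))
  refine ⟨π, hπ.ne_zero, ?_⟩
  haveI : Ring.KrullDimLE 1 (X.presheaf.stalk x) := Ring.krullDimLE_iff.2 hx.le
  haveI := (Ideal.span_singleton_prime hπ.ne_zero).2 hπ
  exact (IsLocalRing.eq_maximalIdeal (Ring.krullDimLE_one_iff_of_noZeroDivisors.1 ‹Ring.KrullDimLE 1 _› (Ideal.span {π})
    (fun h => hπ.ne_zero (Ideal.span_singleton_eq_bot.1 h)) ‹_›)).symm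

variable {V : X.Etale}

include hfact in
theorem exists_uniformizer (z : V.left) (hz : CodimOne (V.hom : V.left ⟶ X) z) :
    ∃ τ : V.left.presheaf.stalk z, τ ≠ 0 ∧ maximalIdeal (V.left.presheaf.stalk z) = Ideal.span {τ} := by
  let f : V.left ⟶ X := V.hom
  haveI : AlgebraicGeometry.Etale f := V.prop
  obtain ⟨π, hπ0, hπ⟩ := exists_uniformizer_base hfact (f z) hz
  haveI := (hfact V z).1
  refine ⟨f.stalkMap z π, fun h => hπ0 ?_, ?_⟩
  · letI := (f.stalkMap z).hom.toAlgebra
    haveI : IsLocalHom (algebraMap (X.presheaf.stalk (f z)) (V.left.presheaf.stalk z)) :=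
      inferInstanceAs (IsLocalHom (f.stalkMap z).hom)
    haveI : Module.Flat (X.presheaf.stalk (f z)) (V.left.presheaf.stalk z) := Flat.stalkMap f z
    haveI : Module.FaithfullyFlat (X.presheaf.stalk (f z)) (V.left.presheaf.stalk z) :=
      Module.FaithfullyFlat.of_flat_of_isLocalHom
    exact FaithfulSMul.algebraMap_injective (X.presheaf.stalk (f z)) (V.left.presheaf.stalk z) (h.trans (map_zero _).symm)
  · rw [← Groth.L21.CurvFib.map_maximalIdeal_stalkMap_of_etale f z, hπ, Ideal.map_span, Set.image_singleton]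

include hfact in
theorem codimOne_of_principal (z : V.left) (τ : V.left.presheaf.stalk z) (hτ0 : τ ≠ 0)
    (hτ : maximalIdeal (V.left.presheaf.stalk z) = Ideal.span {τ}) : CodimOne (V.hom : V.left ⟶ X) z := by
  let f : V.left ⟶ X := V.hom
  haveI : AlgebraicGeometry.Etale f := V.prop
  haveI : IsLocallyNoetherian V.left := LocallyOfFiniteType.isLocallyNoetherian f
  haveI := (hfact V z).1
  haveI hd : IsDomain (X.presheaf.stalk (f z)) := (fact_base hfact (f z)).1
  show ringKrullDim (X.presheaf.stalk (f z)) = 1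
  exact ringKrullDim_eq_one_of_flat (f.stalkMap z).hom (Flat.stalkMap f z)
    (Groth.L21.CurvFib.map_maximalIdeal_stalkMap_of_etale f z) τ hτ hτ0

include hfact in
theorem germ_injective_of_specializes [IsAffine V.left] {v q : V.left} (h : q ⤳ v) :
    Function.Injective (V.left.presheaf.stalkSpecializes h) := by
  haveI := (hfact V v).1
  refine (injective_iff_map_eq_zero (V.left.presheaf.stalkSpecializes h).hom).2 fun r hr => ?_
  have hW : IsAffineOpen (⊤ : V.left.Opens) := isAffineOpen_top V.left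
  letI := V.left.presheaf.algebra_section_stalk (U := (⊤ : V.left.Opens)) ⟨v, trivial⟩
  letI := V.left.presheaf.algebra_section_stalk (U := (⊤ : V.left.Opens)) ⟨q, trivial⟩
  haveI := hW.isLocalization_stalk ⟨v, trivial⟩
  haveI := hW.isLocalization_stalk ⟨q, trivial⟩
  have hσ : ∀ a : Γ(V.left, ⊤), V.left.presheaf.stalkSpecializes h (grm v a) = grm q a := fun a =>
    V.left.presheaf.germ_stalkSpecializes_apply (U := ⊤) trivial h a
  obtain ⟨⟨a, u⟩, hau⟩ := IsLocalization.surj (hW.primeIdealOf ⟨v, trivial⟩).asIdeal.primeCompl r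
  have hq0 : grm q a = 0 := by
    rw [← hσ, show grm v a = r * _ from hau.symm, map_mul]
    exact (congrArg (· * _) hr).trans (zero_mul _)
  obtain ⟨⟨m, hm⟩, he⟩ := (IsLocalization.map_eq_zero_iff (hW.primeIdealOf ⟨q, trivial⟩).asIdeal.primeCompl
    (V.left.presheaf.stalk q) a).1 hq0
  have hmq : grm q m ≠ 0 := (IsLocalization.map_units (V.left.presheaf.stalk q)
    (⟨m, hm⟩ : (hW.primeIdealOf ⟨q, trivial⟩).asIdeal.primeCompl)).ne_zero
  have hmv : grm v m ≠ 0 := fun h0 => hmq (by rw [← hσ, h0]; exact map_zero _)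
  have hva : grm v a = 0 := by
    have := congrArg (grm v) he
    rw [map_mul, map_zero] at this
    exact (mul_eq_zero.1 this).resolve_left hmv
  exact (mul_eq_zero.1 (hau.trans hva)).resolve_right
    (IsLocalization.map_units (V.left.presheaf.stalk v) u).ne_zero

include hfact in
theorem eq_of_specializes_of_codim [IsAffine V.left] {z z' : V.left} (hz : CodimOne (V.hom : V.left ⟶ X) z)
    (h : z' ⤳ z) (a : Γ(V.left, ⊤)) (ha : grm z a ≠ 0) (ha' : ¬ IsUnit (grm z' a)) : z' = z := by
  let f : V.left ⟶ X := V.hom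
  haveI : AlgebraicGeometry.Etale f := V.prop
  haveI : IsLocallyNoetherian V.left := LocallyOfFiniteType.isLocallyNoetherian f
  haveI := (hfact V z).1
  obtain ⟨P, hP⟩ := exists_fromSpecStalk h
  obtain ⟨τ, -, hτ⟩ := exists_uniformizer hfact z hz
  have haP : grm z a ∈ P.asIdeal := by
    by_contra hn
    apply ha'
    have h1 : z' ∈ V.left.basicOpen a := by
      have hW : IsAffineOpen (⊤ : V.left.Opens) := isAffineOpen_top V.left
      rw [← hP, ← hW.fromSpecStalk_eq_fromSpecStalk (x := z) trivial]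
      show (Spec.map (V.left.presheaf.germ ⊤ z trivial)) P ∈ hW.fromSpec ⁻¹ᵁ V.left.basicOpen a
      rw [hW.fromSpec_preimage_basicOpen]
      exact hn
    exact (V.left.mem_basicOpen_top a z').1 h1
  have hPm : P = closedPoint _ := PrimeSpectrum.ext
    (eq_maximalIdeal_of_isPrime τ hτ P.asIdeal fun h0 => ha (by rw [h0] at haP; exact (Submodule.mem_bot _).1 haP))
  rw [← hP, hPm]
  exact Scheme.fromSpecStalk_closedPoint

include hfact in
/-- finitely many points of codimension one on the zero set -/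
theorem finite_codimOne_nonunit [IsAffine V.left] (a : Γ(V.left, ⊤)) :
    {z : V.left | CodimOne (V.hom : V.left ⟶ X) z ∧ grm z a ≠ 0 ∧ ¬ IsUnit (grm z a)}.Finite := by
  let f : V.left ⟶ X := V.hom
  haveI : AlgebraicGeometry.Etale f := V.prop
  haveI : IsLocallyNoetherian V.left := LocallyOfFiniteType.isLocallyNoetherian f
  have hW : IsAffineOpen (⊤ : V.left.Opens) := isAffineOpen_top V.left
  haveI : IsNoetherianRing Γ(V.left, ⊤) := IsLocallyNoetherian.component_noetherian ⟨⊤, hW⟩
  let F : V.left → Ideal Γ(V.left, ⊤) := fun z => (hW.primeIdealOf ⟨z, trivial⟩).asIdeal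
  have hinj : Function.Injective F := fun z z' e => by
    have e' : hW.primeIdealOf ⟨z, trivial⟩ = hW.primeIdealOf ⟨z', trivial⟩ := PrimeSpectrum.ext e
    have := congrArg hW.fromSpec e'
    rwa [hW.fromSpec_primeIdealOf, hW.fromSpec_primeIdealOf] at this
  have hmem : ∀ z b, b ∈ F z ↔ ¬ IsUnit (grm z b) := fun z b => by
    letI := V.left.presheaf.algebra_section_stalk (U := (⊤ : V.left.Opens)) ⟨z, trivial⟩
    haveI := hW.isLocalization_stalk ⟨z, trivial⟩
    exact ((IsLocalization.AtPrime.isUnit_to_map_iff (V.left.presheaf.stalk z) (F z) b).not.trans not_not).symm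
  refine ((Ideal.finite_minimalPrimes_of_isNoetherianRing _ (Ideal.span {a})).preimage hinj.injOn).subset ?_
  rintro z ⟨hz, ha, hau⟩
  refine ⟨⟨(hW.primeIdealOf ⟨z, trivial⟩).isPrime, (Ideal.span_singleton_le_iff_mem _).2 ((hmem z a).2 hau)⟩, ?_⟩
  rintro Q ⟨hQ, hQa⟩ hQz
  let z' : V.left := hW.fromSpec ⟨Q, hQ⟩
  have hFz' : F z' = Q := by
    have e : hW.primeIdealOf ⟨z', trivial⟩ = ⟨Q, hQ⟩ :=
      hW.fromSpec.isOpenEmbedding.injective (hW.fromSpec_primeIdealOf _)
    exact congrArg PrimeSpectrum.asIdeal e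
  have hs : z' ⤳ z := specializes_of_isUnit z' z fun b hb => by
    by_contra hn
    exact ((hmem z b).1 (hQz (hFz' ▸ (hmem z' b).2 hn))) hb
  have := eq_of_specializes_of_codim hfact hz hs a ha
    ((hmem z' a).1 (hFz'.symm ▸ (Ideal.span_singleton_le_iff_mem _).1 hQa))
  exact (congrArg F this.symm).trans hFz' |>.le

/-- throwing away the points not generalising a given one -/
theorem exists_open_specializes {W : Scheme.{u}} (v : W) {S : Set W} (hS : S.Finite) :
    ∃ O : W.Opens, v ∈ O ∧ ∀ z ∈ S, z ∈ O → z ⤳ v := by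
  let T : Set W := ⋃ z ∈ {z ∈ S | ¬ z ⤳ v}, closure {z}
  have hT : IsClosed T := (hS.subset fun z hz => hz.1).isClosed_biUnion fun z _ => isClosed_closure
  refine ⟨⟨Tᶜ, hT.isOpen_compl⟩, fun hv => ?_, fun z hz hzO => by_contra fun h => hzO ?_⟩
  · obtain ⟨z, hz, hzv⟩ := Set.mem_iUnion₂.1 hv
    exact hz.2 (specializes_iff_mem_closure.2 hzv)
  · exact Set.mem_biUnion (x := z) ⟨hz, h⟩ (subset_closure rfl)

end Groth.L28.DivGen
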