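import Groth.Agent.L28.CurveCd.GmStalk
import Groth.Agent.L28.CurveCd.Biprod
import Groth.Agent.L28.CurveCd.Torsion
import Groth.Agent.L28.DivGen.Codim
import Groth.Agent.L21.Curve.NormalConnected

/-!
Splitting a noetherian scheme with domains as local rings into integral components.
-/

set_option autoImplicit false
set_option linter.style.haveILetI false
set_option linter.unusedSectionVars false
set_option backward.isDefEq.respectTransparency.types false

universe u

open CategoryTheory CategoryTheory.Limits AlgebraicGeometry Opposite TopologicalSpace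
open Groth.L28.CurveCd

namespace Groth.L28.DivGen

variable {X : Scheme.{u}} [AlgebraicGeometry.IsNoetherian X] (h : ∀ x : X, IsDomain (X.presheaf.stalk x))

include h in
/-- irreducible components are open -/
theorem isOpen_component {Z : Set X} (hZ : Z ∈ irreducibleComponents (X : Type u)) : IsOpen Z := by
  rw [← isClosed_compl_iff]
  have hc : Zᶜ = ⋃ W ∈ irreducibleComponents (X : Type u) \ {Z}, W := by
    ext y
    simp only [Set.mem_compl_iff, Set.mem_iUnion, Set.mem_sdiff, Set.mem_singleton_iff, exists_prop]
    constructor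
    · intro hy
      exact ⟨irreducibleComponent y, ⟨irreducibleComponent_mem_irreducibleComponents y,
        fun e => hy (e ▸ mem_irreducibleComponent)⟩, mem_irreducibleComponent⟩
    · rintro ⟨W, ⟨hW, hne⟩, hyW⟩ hyZ
      haveI := h y
      exact hne (Groth.L21.NormalTotal.eq_of_mem_irreducibleComponents y hW hZ hyW hyZ)
  rw [hc]
  exact (NoetherianSpace.finite_irreducibleComponents.subset Set.sdiff_subset).isClosed_biUnion
    fun W hW => isClosed_of_mem_irreducibleComponents W hW.1

/-- the open subscheme of a component -/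
def compOpen (Z : irreducibleComponents (X : Type u)) : X.Opens := ⟨Z.1, isOpen_component h Z.2⟩

theorem isIntegral_compOpen (Z : irreducibleComponents (X : Type u)) :
    AlgebraicGeometry.IsIntegral (compOpen h Z : Scheme.{u}) := by
  haveI : ∀ x : X, _root_.IsReduced (X.presheaf.stalk x) := fun x => by haveI := h x; infer_instance
  haveI := isReduced_of_isReduced_stalk X
  haveI : PreirreducibleSpace (compOpen h Z : Scheme.{u}) :=
    Subtype.preirreducibleSpace Z.2.1.2
  haveI : IrreducibleSpace (compOpen h Z : Scheme.{u}) :=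
    { toNonempty := Z.2.1.1.to_subtype }
  exact isIntegral_of_irreducibleSpace_of_isReduced _

theorem isClosedImmersion_compOpen (Z : irreducibleComponents (X : Type u)) : IsClosedImmersion (compOpen h Z).ι := by
  refine IsClosedImmersion.of_isPreimmersion _ ?_
  rw [Scheme.Opens.range_ι]
  exact isClosed_of_mem_irreducibleComponents _ Z.2

theorem isNoetherian_compOpen (Z : irreducibleComponents (X : Type u)) :
    AlgebraicGeometry.IsNoetherian (compOpen h Z : Scheme.{u}) := by
  haveI : IsLocallyNoetherian (compOpen h Z : Scheme.{u}) := isLocallyNoetherian_of_isOpenImmersion (compOpen h Z).ι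
  haveI : NoetherianSpace X := inferInstance
  haveI : CompactSpace (compOpen h Z : Scheme.{u}) :=
    isCompact_iff_compactSpace.1 (NoetherianSpace.isCompact (compOpen h Z : Set X))
  exact {}

theorem fact_compOpen (hfact : Fact X) (Z : irreducibleComponents (X : Type u)) : Fact (compOpen h Z : Scheme.{u}) :=
  fun V v => by
    let f : V.left ⟶ (compOpen h Z : Scheme.{u}) := V.hom
    haveI : AlgebraicGeometry.Etale f := V.prop
    exact hfact (Scheme.Etale.mk (f ≫ (compOpen h Z).ι)) v

/-- the direct images of the units of the components -/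
noncomputable abbrev compFam (Z : irreducibleComponents (X : Type u)) : EtCoh.Ab X :=
  (EtCoh.push (compOpen h Z).ι).obj (EtCoh.Gm (compOpen h Z : Scheme.{u}))

theorem bijective_stalk_compGm [Fintype (irreducibleComponents (X : Type u))] [HasBiproduct (compFam h)]
    {Ω : Type u} [Field Ω] [IsSepClosed Ω] (ξ : Spec (CommRingCat.of Ω) ⟶ X) :
    Function.Bijective ((EtCoh.stalk ξ).map (biproduct.lift fun Z => EtLim.GmPush (compOpen h Z).ι :
      EtCoh.Gm X ⟶ ⨁ compFam h)) := by
  let x := ξ.base (default : Spec (CommRingCat.of Ω))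
  let Z₀ : irreducibleComponents (X : Type u) := ⟨irreducibleComponent x, irreducibleComponent_mem_irreducibleComponents x⟩
  refine bijective_stalk_lift (compFam h) _ ξ Z₀ (fun Z hne => ?_) ?_
  · haveI := isClosedImmersion_compOpen h Z
    refine Groth.L27.EtSite.isZero_stalk_push _ _ ξ fun hx => hne (Subtype.ext ?_)
    have hx' : x ∈ Z.1 := (compOpen h Z).range_ι.le hx
    haveI := h x
    exact Groth.L21.NormalTotal.eq_of_mem_irreducibleComponents x Z.2 Z₀.2 hx' mem_irreducibleComponent
  · have hι : IsOpenImmersion (compOpen h Z₀).ι := inferInstance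
    have hr : Set.range ξ ⊆ Set.range (compOpen h Z₀).ι := by
      rintro _ ⟨z, rfl⟩
      rw [Subsingleton.elim (α := Spec (CommRingCat.of Ω)) z default]
      exact (compOpen h Z₀).range_ι.ge (mem_irreducibleComponent : x ∈ irreducibleComponent x)
    have hf := @IsOpenImmersion.lift_fac _ _ _ (compOpen h Z₀).ι ξ hι hr
    rw [← hf]
    exact ⟨injective_stalk_GmPush _ _, surjective_stalk_GmPush _ _⟩

include h in
/-- torsion may be checked on the components -/
theorem isAddTorsion_of_components (q : ℕ)
    (ht : ∀ Z, IsAddTorsion (EtCoh.H (compOpen h Z : Scheme.{u}) (EtCoh.Gm (compOpen h Z : Scheme.{u})) q)) :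
    IsAddTorsion (EtCoh.H X (EtCoh.Gm X) q) := by
  haveI := (NoetherianSpace.finite_irreducibleComponents (α := X)).to_subtype
  haveI := Fintype.ofFinite (irreducibleComponents (X : Type u))
  haveI : HasBiproduct (compFam h) := HasBiproductsOfShape.has_biproduct _
  let ψ : EtCoh.Gm X ⟶ ⨁ compFam h := biproduct.lift fun Z => EtLim.GmPush (compOpen h Z).ι
  haveI : Mono ψ := (Groth.L27.EtSite.mono_iff_stalks _).2 fun Ω _ _ ξ => (bijective_stalk_compGm h ξ).1
  haveI : Epi ψ := (Groth.L27.EtSite.epi_iff_stalks _).2 fun Ω _ _ ξ => (bijective_stalk_compGm h ξ).2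
  haveI : IsIso ψ := isIso_of_mono_of_epi _
  refine isAddTorsion_of_iso ((EtCoh.HF X q).mapIso (asIso ψ)) (isAddTorsion_biproduct _ q fun Z => ?_)
  haveI := isClosedImmersion_compOpen h Z
  haveI := Groth.L27.EtSite.preservesFiniteLimits_pull (compOpen h Z).ι
  intro a
  obtain ⟨n, hn, hn0⟩ := isOfFinAddOrder_iff_nsmul_eq_zero.1 (ht Z (EtLim.HofPush (compOpen h Z).ι _ q a))
  refine isOfFinAddOrder_iff_nsmul_eq_zero.2 ⟨n, hn, (Groth.L27.EtSite.bijective_HofPush (compOpen h Z).ι _
    (fun r hr => Groth.L27.EtSite.isZero_Rpush_of_propB _ (Groth.L27.EtSite.propB_of_isIntegralHom _) _ r hr) q).1 ?_⟩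
  exact ((map_nsmul _ n a).trans hn0).trans (map_zero _).symm

end Groth.L28.DivGen
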