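import Groth.Agent.L28.DivGen.Order
import Groth.Agent.L28.Divisor.Iso

/-!
Stalks of the sheaf of divisors.
-/

set_option autoImplicit false
set_option linter.style.haveILetI false
set_option linter.unusedSectionVars false
set_option backward.isDefEq.respectTransparency.types false

universe u

open CategoryTheory CategoryTheory.Limits AlgebraicGeometry Opposite IsLocalRing
open Groth.L27.MV (oE oTop oHom)
open Groth.L28.Sky Groth.L28.Divisor

namespace Groth.L28.DivGen

section General

variable {X : Scheme.{u}} {Ω : Type u} [Field Ω] [IsSepClosed Ω] (ξ : Spec (CommRingCat.of Ω) ⟶ X)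

omit [Field Ω] [IsSepClosed Ω] in
/-- lifting geometric points along étale maps -/
theorem exists_fiber_over {Ω : Type u} [Field Ω] [IsSepClosed Ω] (ξ : Spec (CommRingCat.of Ω) ⟶ X)
    {V V' : X.Etale} (g : V' ⟶ V) (y : (Scheme.pointSmallEtale ξ).fiber.obj V) (v' : V'.left)
    (hv : g.left v' = y.left.base (default : Spec (CommRingCat.of Ω))) :
    ∃ y', (Scheme.pointSmallEtale ξ).fiber.map g y' = y := by
  let hVm : V.left ⟶ X := V.hom
  haveI : AlgebraicGeometry.Etale hVm := V.prop
  let hVm' : V'.left ⟶ X := V'.hom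
  haveI : AlgebraicGeometry.Etale hVm' := V'.prop
  let G : V'.left ⟶ V.left := g.left
  haveI : AlgebraicGeometry.Etale (G ≫ hVm) := by
    rw [show G ≫ hVm = hVm' from MorphismProperty.Over.w g]; infer_instance
  haveI : AlgebraicGeometry.Etale G :=
    MorphismProperty.of_postcomp (W := @AlgebraicGeometry.Etale) (W' := @AlgebraicGeometry.Etale) G hVm inferInstance inferInstance
  obtain ⟨y₁, -⟩ := Groth.L27.EtSite.exists_fiber (X := V.left) y.left (Scheme.Etale.mk G) v' hv
  have e : y₁.left ≫ G = y.left := Over.w y₁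
  refine ⟨Over.homMk y₁.left ?_, Over.OverMorphism.ext e⟩
  exact (congrArg (y₁.left ≫ ·) (MorphismProperty.Over.w g).symm).trans
    ((Category.assoc _ _ _).symm.trans ((congrArg (· ≫ hVm) e).trans (Over.w y)))

omit [Field Ω] [IsSepClosed Ω] in
/-- whether a germ vanishes only depends on the point below the geometric point -/
theorem germ_eq_zero_congr {F : EtCoh.Ab X} {V : X.Etale} (s : F.obj.obj (op V))
    {Ω : Type u} [Field Ω] [IsSepClosed Ω] {ξ : Spec (CommRingCat.of Ω) ⟶ X}
    {Ω' : Type u} [Field Ω'] [IsSepClosed Ω'] {ξ' : Spec (CommRingCat.of Ω') ⟶ X}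
    (y : (Scheme.pointSmallEtale ξ).fiber.obj V) (y' : (Scheme.pointSmallEtale ξ').fiber.obj V)
    (he : y'.left.base (default : Spec (CommRingCat.of Ω')) = y.left.base (default : Spec (CommRingCat.of Ω)))
    (h : germ ξ V y s = 0) : germ ξ' V y' s = 0 := by
  obtain ⟨W, g, w, hw, hg⟩ := ((Scheme.pointSmallEtale ξ).toPresheafFiber_eq_iff' V y s 0).1 (h.trans (map_zero _).symm)
  obtain ⟨w', rfl⟩ := exists_fiber_over ξ' g y' (w.left.base (default : Spec (CommRingCat.of Ω))) (by
    rw [he, ← hw]; rfl)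
  rw [← germ_res ξ' g w' s]
  exact (congrArg (germ ξ' W w') (hg.trans (map_zero _))).trans (map_zero _)

end General

variable {X : Scheme.{u}} [AlgebraicGeometry.IsIntegral X]

section Crit

variable {Ω : Type u} [Field Ω] [IsSepClosed Ω] (ξ : Spec (CommRingCat.of Ω) ⟶ X)

/-- the class of a rational function vanishes iff it is a unit at the point -/
theorem germ_proj_eq_zero_iff {V : X.Etale} (y : (Scheme.pointSmallEtale ξ).fiber.obj V) (s : (P X).obj.obj (op V)) :
    germ ξ V y ((proj X).hom.app (op V) s) = 0 ↔ UnitAt V s (y.left.base (default : Spec (CommRingCat.of Ω))) := by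
  constructor
  · intro h
    rw [← stalk_map_germ] at h
    have hS : (ShortComplex.mk (φ X) (proj X) (cokernel.condition _)).Exact :=
      ShortComplex.exact_of_g_is_cokernel _ (cokernelIsCokernel _)
    obtain ⟨a, ha⟩ := (ShortComplex.ab_exact_iff _).1 (hS.map (EtCoh.stalk ξ)) _ h
    obtain ⟨W, yW, c₀, rfl⟩ := (Scheme.pointSmallEtale ξ).toPresheafFiber_jointly_surjective a
    obtain ⟨⟨V', y'⟩, ⟨i, hi⟩, ⟨j, hj⟩, -⟩ := IsCofilteredOrEmpty.cone_objs
      ((Scheme.pointSmallEtale ξ).fiber.elementsMk V y)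
      ((Scheme.pointSmallEtale ξ).fiber.elementsMk W yW)
    have hi' : (Scheme.pointSmallEtale ξ).fiber.map i y' = y := hi
    have hj' : (Scheme.pointSmallEtale ξ).fiber.map j y' = yW := hj
    have e : germ ξ V' y' ((P X).obj.map i.op s) =
        germ ξ V' y' ((φ X).hom.app (op V') ((EtCoh.Gm X).obj.map j.op c₀)) := by
      rw [NatTrans.naturality_apply, germ_res, germ_res, hi', hj']
      exact (ha.symm.trans (stalk_map_germ ξ (φ X) W yW c₀))
    obtain ⟨V'', a', y'', hy'', he⟩ := ((Scheme.pointSmallEtale ξ).toPresheafFiber_eq_iff' _ _ _ _).1 e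
    rw [← Functor.map_comp_apply, ← op_comp, ← NatTrans.naturality_apply] at he
    refine ⟨V'', a' ≫ i, y''.left.base (default : Spec (CommRingCat.of Ω)), _, ?_, he⟩
    rw [← hi', ← hy'']
    rfl
  · rintro ⟨V', g, v', c, hv, hc⟩
    obtain ⟨y', rfl⟩ := exists_fiber_over ξ g y v' hv
    rw [← germ_res ξ g y' ((proj X).hom.app (op V) s), ← NatTrans.naturality_apply (proj X).hom g.op s, hc,
      Groth.L28.Divisor.proj_φ]
    exact map_zero _

end Crit

/-- uniformising charts at points of codimension one -/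
structure UChart (x : X) where
  U : X.Opens
  hU : IsAffineOpen U
  hxU : x ∈ U
  t : Γ(X, U)
  ht : t ≠ 0
  hmax : maximalIdeal (X.presheaf.stalk x) = Ideal.span {X.presheaf.germ U x hxU t}

theorem nonempty_uchart [IsLocallyNoetherian X] (hfact : Fact X) (x : X) (hx : ringKrullDim (X.presheaf.stalk x) = 1) :
    Nonempty (UChart x) := by
  obtain ⟨π, hπ0, hπ⟩ := exists_uniformizer_base hfact x hx
  obtain ⟨W, hxW, t₀, ht₀⟩ := X.presheaf.exists_germ_eq π
  obtain ⟨U, hU, hxU, hUW⟩ := exists_isAffineOpen_mem_and_subset (x := x) (U := W) hxW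
  have hg : X.presheaf.germ U x hxU (X.presheaf.map (homOfLE hUW).op t₀) = π :=
    (X.presheaf.germ_res_apply (homOfLE hUW) x hxU t₀).trans ht₀
  exact ⟨⟨U, hU, hxU, _, fun h0 => hπ0 (hg.symm.trans ((congrArg (X.presheaf.germ U x hxU) h0).trans (map_zero _))),
    hπ.trans (congrArg (fun r => Ideal.span {r}) hg.symm)⟩⟩

variable {x : X} (C : UChart x)

theorem UChart.hres : IsUnit (res (X := X) (W := (oE C.U).left) (oE C.U).hom
    (str (X := X) (W := (oE C.U).left) (oE C.U).hom (C.U.ι_preimage_self).ge C.t)) := by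
  haveI : IsAffine (C.U : Scheme.{u}) := C.hU
  haveI : Nonempty C.U := ⟨⟨x, C.hxU⟩⟩
  exact (exists_frac C.hU C.U.ι _).2.2 C.t C.ht

/-- the uniformiser -/
noncomputable def UChart.τ : (P X).obj.obj (op (oE C.U)) := tη C.t C.hres

/-- the class of the uniformiser -/
noncomputable def UChart.τQ : (Q X).obj.obj (op (oE C.U)) := (proj X).hom.app (op (oE C.U)) C.τ

variable {Ω : Type u} [Field Ω] [IsSepClosed Ω] (ξ : Spec (CommRingCat.of Ω) ⟶ X)

theorem germ_τQ_congr {V : X.Etale} (y : (Scheme.pointSmallEtale ξ).fiber.obj V) (e : V ⟶ oE C.U)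
    (yU : (Scheme.pointSmallEtale ξ).fiber.obj (oE C.U)) :
    germ ξ V y ((Q X).obj.map e.op C.τQ) = germ ξ (oE C.U) yU C.τQ := by
  rw [germ_res]
  refine congrArg (fun a => germ ξ (oE C.U) a C.τQ) (Over.OverMorphism.ext ?_)
  exact (cancel_mono C.U.ι).1 ((Over.w _).trans (Over.w yU).symm)

variable [IsLocallyNoetherian X] (hξ : ξ.base default = x) (yU : (Scheme.pointSmallEtale ξ).fiber.obj (oE C.U))

include hξ in
/-- every class is a multiple of that of the uniformiser -/
theorem exists_eq_zsmul_τQ (z : (EtCoh.stalk ξ).obj (Q X)) :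
    ∃ n : ℤ, z = n • germ ξ (oE C.U) yU C.τQ := by
  haveI : Epi (proj X) := inferInstanceAs (Epi (cokernel.π (φ X)))
  obtain ⟨z', rfl⟩ := (Groth.L27.EtSite.epi_iff_stalks (proj X)).1 inferInstance Ω ξ z
  obtain ⟨V, y, s, rfl⟩ := (Scheme.pointSmallEtale ξ).toPresheafFiber_jointly_surjective z'
  have hv : V.hom (y.left.base (default : Spec (CommRingCat.of Ω))) = x :=
    (Groth.L27.EtSite.fiber_apply y).trans hξ
  obtain ⟨V₀, g₀, v₀, -, hgv₀, hV₀, -, hg₀⟩ := exists_nbhd V (y.left.base (default : Spec (CommRingCat.of Ω))) (U := C.U)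
    (hv.symm ▸ C.hxU) ⊤ trivial
  obtain ⟨e₀⟩ := Groth.L28.Divisor.exists_to_oE V₀ hV₀
  obtain ⟨y₀, rfl, hy₀⟩ := exists_fiber_lift ξ g₀ y v₀ hgv₀
  have hv₀ : V₀.hom (y₀.left.base (default : Spec (CommRingCat.of Ω))) = x :=
    (Groth.L27.EtSite.fiber_apply y₀).trans hξ
  obtain ⟨V', g, v', c', n, m, hv', hg, -, -, heq⟩ := exists_decomp C.hU C.t V₀
    (y₀.left.base (default : Spec (CommRingCat.of Ω))) (hv₀.symm ▸ C.hxU) (span_congr _ hv₀.symm _ _ C.hmax)
    ((P X).obj.map g₀.op s)
  obtain ⟨y', rfl, -⟩ := exists_fiber_lift ξ g y₀ v' hv'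
  refine ⟨(n : ℤ) - m, ?_⟩
  rw [← germ_τQ_congr C ξ y' (g ≫ e₀) yU]
  show (EtCoh.stalk ξ).map (proj X) (germ ξ V _ s) = _
  rw [← germ_res ξ g₀ _ s, ← germ_res ξ g y' _, stalk_map_germ]
  show _ = ((n : ℤ) - m) • (Scheme.pointSmallEtale ξ).toPresheafFiber V' y' (Q X).obj _
  rw [← map_zsmul]
  refine congrArg _ ?_
  have h := congrArg ((proj X).hom.app (op V')) (heq C.hres (g ≫ e₀))
  rw [map_add, map_add, map_nsmul, map_nsmul, Groth.L28.Divisor.proj_φ, zero_add, ← eq_sub_iff_add_eq] at h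
  rw [h, sub_smul, natCast_zsmul, natCast_zsmul]
  show _ = n • (Q X).obj.map (g ≫ e₀).op C.τQ - m • (Q X).obj.map (g ≫ e₀).op C.τQ
  rw [UChart.τQ, ← NatTrans.naturality_apply (proj X).hom (g ≫ e₀).op C.τ]
  rfl

include hξ in
/-- the class of the uniformiser has infinite order -/
theorem eq_zero_of_zsmul_τQ (n : ℤ) (h : n • germ ξ (oE C.U) yU C.τQ = 0) : n = 0 := by
  let m := n.natAbs
  have hm : m • germ ξ (oE C.U) yU C.τQ = 0 := by
    rw [← natCast_zsmul]
    rcases n.natAbs_eq with e | e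
    · rw [← e]; exact h
    · rw [show (m : ℤ) = -n by omega, neg_smul, h, neg_zero]
  have h' : germ ξ (oE C.U) yU ((proj X).hom.app (op (oE C.U)) (m • C.τ)) = 0 := by
    rw [map_nsmul]
    exact (map_nsmul _ _ _).trans hm
  obtain ⟨V', g, v', c, hv', hc⟩ := (germ_proj_eq_zero_iff ξ yU (m • C.τ)).1 h'
  rw [map_nsmul] at hc
  have hx' : V'.hom v' = x := by
    refine ((congrArg (fun k : V'.left ⟶ X => k v') (MorphismProperty.Over.w g)).symm.trans ?_)
    refine (Scheme.Hom.comp_apply _ _ _).trans ?_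
    rw [hv']
    exact (Groth.L27.EtSite.fiber_apply yU).trans hξ
  exact Int.natAbs_eq_zero.1 (eq_zero_of_nsmul C.hU C.t C.hres V' v' g
    (germ_mem_congr _ hx'.symm C.hxU _ (C.hmax ▸ Ideal.mem_span_singleton_self _)) m c hc)

omit [IsLocallyNoetherian X] in
include hξ in
/-- a local equation has the class of the uniformiser -/
theorem germ_mkU_eq_τQ {W : X.Etale} (yW : (Scheme.pointSmallEtale ξ).fiber.obj W) (a : Γ(W.left, ⊤))
    [IsDomain (W.left.presheaf.stalk (yW.left.base (default : Spec (CommRingCat.of Ω))))]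
    (ha : maximalIdeal (W.left.presheaf.stalk (yW.left.base (default : Spec (CommRingCat.of Ω)))) =
      Ideal.span {grm (W := W.left) (yW.left.base (default : Spec (CommRingCat.of Ω))) a})
    (hu : IsUnit (res (X := X) (W := W.left) W.hom a)) :
    germ ξ W yW ((proj X).hom.app (op W) (mkU hu.unit)) = germ ξ (oE C.U) yU C.τQ := by
  let w := yW.left.base (default : Spec (CommRingCat.of Ω))
  have hwx : W.hom w = x := (Groth.L27.EtSite.fiber_apply yW).trans hξ
  obtain ⟨W', g, w', hA, hgw, hW', -, hg⟩ := exists_nbhd W w (U := C.U) (hwx.symm ▸ C.hxU) ⊤ trivial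
  obtain ⟨y', hy', hy''⟩ := exists_fiber_lift ξ g yW w' hgw
  obtain ⟨e⟩ := Groth.L28.Divisor.exists_to_oE W' hW'
  haveI : Nonempty C.U := ⟨⟨x, C.hxU⟩⟩
  let f' : W'.left ⟶ X := W'.hom
  haveI : AlgebraicGeometry.Etale f' := W'.prop
  haveI : IsOpenImmersion g.left := hg
  let t' := str (X := X) (W := W'.left) W'.hom hW' C.t
  let d := (P X).obj.map g.op (mkU hu.unit) - (P X).obj.map e.op C.τ
  have hf : IsFrac W' d (g.left.appTop a) t' := by
    refine ⟨?_, (exists_frac C.hU f' hW').2.2 C.t C.ht⟩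
    have hτ : valP ((P X).obj.map e.op C.τ) = res (X := X) (W := W'.left) W'.hom t' := val_map_tη C.t C.hres e hW'
    have hs : valP ((P X).obj.map g.op (mkU hu.unit)) = res (X := X) (W := W'.left) W'.hom (g.left.appTop a) :=
      (val_push_map g _).trans ((congrArg _ hu.unit_spec).trans (bc_res g a))
    rw [← hτ, ← hs]
    refine (val_add d _).symm.trans (congrArg val ?_)
    exact sub_add_cancel _ _
  have hw' : W'.hom w' = x :=
    ((congrArg (fun k : W'.left ⟶ X => k w') (MorphismProperty.Over.w g)).symm.trans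
      ((Scheme.Hom.comp_apply _ _ _).trans (congrArg W.hom hgw))).trans hwx
  have h1 : maximalIdeal (W'.left.presheaf.stalk w') = Ideal.span {grm (W := W'.left) w' t'} := by
    rw [grm_str, ← Groth.L21.CurvFib.map_maximalIdeal_stalkMap_of_etale f' w',
      span_congr C.t hw'.symm C.hxU (hW' trivial) C.hmax, Ideal.map_span, Set.image_singleton]
  have hgi : Function.Bijective (g.left.stalkMap w') := ConcreteCategory.bijective_of_isIso _
  haveI : IsDomain (W.left.presheaf.stalk (g.left w')) := by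
    rw [hgw]; infer_instance
  haveI : IsDomain (W'.left.presheaf.stalk w') :=
    Function.Injective.isDomain _ (RingEquiv.ofBijective _ hgi).symm.injective
  have h2 : maximalIdeal (W'.left.presheaf.stalk w') = Ideal.span {grm (W := W'.left) w' (g.left.appTop a)} := by
    have ha' : maximalIdeal (W.left.presheaf.stalk (g.left w')) = Ideal.span {grm (W := W.left) (g.left w') a} := by
      rw [hgw]; exact ha
    rw [grm_appTop, ← Groth.L21.CurvFib.map_maximalIdeal_stalkMap_of_etale g.left w', ha', Ideal.map_span,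
      Set.image_singleton]
  obtain ⟨V'', g'', v'', c, hv'', -, hc⟩ := exists_open_of_associated W' hf w'
    (Ideal.span_singleton_eq_span_singleton.1 (h1.symm.trans h2))
  have hd : germ ξ W' y' ((proj X).hom.app (op W') d) = 0 :=
    (germ_proj_eq_zero_iff ξ y' d).2 ⟨V'', g'', v'', c, hv''.trans hy''.symm, hc⟩
  rw [← hy', ← germ_res, ← germ_τQ_congr C ξ y' e yU, UChart.τQ, ← NatTrans.naturality_apply (proj X).hom g.op,
    ← NatTrans.naturality_apply (proj X).hom e.op]
  rw [map_sub] at hd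
  exact sub_eq_zero.1 ((map_sub _ _ _).symm.trans hd)

end Groth.L28.DivGen
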