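import Groth.Agent.L28.DivGen.Codim
import Groth.Agent.L10.RegularUFD
import Groth.Agent.L21.Smooth.EtaleRegular

/-!
Regular schemes are locally factorial for the étale topology.
-/

set_option autoImplicit false
set_option linter.style.haveILetI false
set_option backward.isDefEq.respectTransparency.types false

universe u

open CategoryTheory AlgebraicGeometry IsLocalRing

namespace Groth.L28.DivGen

theorem fact_of_regular (X : Scheme.{u}) [IsLocallyNoetherian X]
    (hreg : ∀ x : ↥X, IsRegularLocalRing (X.presheaf.stalk x)) : Fact X := fun V v => by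
  let f : V.left ⟶ X := V.hom
  haveI : AlgebraicGeometry.Etale f := V.prop
  haveI : IsLocallyNoetherian V.left := LocallyOfFiniteType.isLocallyNoetherian f
  haveI := hreg (f v)
  letI := (f.stalkMap v).hom.toAlgebra
  haveI : Module.Flat (X.presheaf.stalk (f v)) (V.left.presheaf.stalk v) := Flat.stalkMap f v
  haveI := (Groth.L21.Smooth.regular_of_flat_of_map_maximalIdeal (X.presheaf.stalk (f v)) (V.left.presheaf.stalk v)
    (Groth.L21.CurvFib.map_maximalIdeal_stalkMap_of_etale f v)).1
  exact ⟨Groth.L01.isDomain_of_regular _, Groth.L10.RegUFD.isUFD _⟩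

end Groth.L28.DivGen
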