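import Groth.Agent.L28.DivGen.Total
import Groth.Agent.L28.CurveCd.Torsion

/-!
Higher cohomology of the multiplicative group of a locally factorial integral scheme is torsion.
-/

set_option autoImplicit false
set_option linter.style.haveILetI false
set_option linter.unusedSectionVars false
set_option backward.isDefEq.respectTransparency.types false

universe u

open CategoryTheory CategoryTheory.Limits AlgebraicGeometry Opposite IsLocalRing
open Groth.L28.Divisor Groth.L28.CurveCd

namespace Groth.L28.DivGen

variable (X : Scheme.{u}) [AlgebraicGeometry.IsIntegral X]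

theorem nonempty_push_gen_iso (G : EtCoh.Ab (Spec (X.presheaf.stalk (genericPoint X)))) :
    ∃ G' : EtCoh.Ab (Spec (X.residueField (genericPoint X))),
      Nonempty ((EtCoh.push (X.fromSpecResidueField (genericPoint X))).obj G' ≅ (EtCoh.push (gen X)).obj G) := by
  haveI : IsIso (X.residue (genericPoint X)) := by
    refine (ConcreteCategory.isIso_iff_bijective (X.residue (genericPoint X))).2
      ⟨?_, IsLocalRing.residue_surjective⟩
    refine (injective_iff_map_eq_zero (X.residue (genericPoint X)).hom).2 fun r hr => ?_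
    have hm : r ∈ maximalIdeal (X.presheaf.stalk (genericPoint X)) := (IsLocalRing.residue_eq_zero_iff r).1 hr
    rwa [show maximalIdeal (X.presheaf.stalk (genericPoint X)) = ⊥ from maximalIdeal_eq_bot (R := X.functionField),
      Submodule.mem_bot] at hm
  let e := Spec.map (X.residue (genericPoint X))
  haveI : IsIso e := inferInstance
  have he : inv e ≫ X.fromSpecResidueField (genericPoint X) = gen X := by
    rw [show X.fromSpecResidueField (genericPoint X) = e ≫ gen X from rfl, IsIso.inv_hom_id_assoc]
  refine ⟨(EtCoh.push (inv e)).obj G, ⟨?_⟩⟩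
  exact (EtCoh.pushComp (X.fromSpecResidueField (genericPoint X)) (inv e)).app G ≪≫ (EtCoh.pushCongr he).app G

theorem isAddTorsion_H_Gm [AlgebraicGeometry.IsNoetherian X] (hfact : Fact X) (q : ℕ) :
    IsAddTorsion (EtCoh.H X (EtCoh.Gm X) (q + 2)) := by
  haveI : HasColimitsOfSize.{u, u} (EtCoh.Ab X) := hasColimitsOfSizeShrink.{u, u, u + 1, u + 1} _
  let c : Cofan (Skyz X) := colimit.cocone _
  obtain ⟨e⟩ := nonempty_cokernel_iso hfact c (colimit.isColimit _)
  let E : ShortComplex (EtCoh.Ab X) := ShortComplex.mk (φ X) (proj X) (cokernel.condition _)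
  haveI : Mono E.f := mono_φ (X := X)
  haveI : Epi E.g := inferInstanceAs (Epi (cokernel.π (φ X)))
  have hE : E.ShortExact := { exact := ShortComplex.exact_of_g_is_cokernel _ (cokernelIsCokernel _) }
  refine torsion_left hE (q + 1) ?_ ?_
  · exact isAddTorsion_of_iso ((EtCoh.HF X (q + 1)).mapIso e)
      (isAddTorsion_coprod (Skyz X) (q + 1) (fun x => isAddTorsion_H_push x.1 q _) c (colimit.isColimit _))
  · obtain ⟨G', ⟨e'⟩⟩ := nonempty_push_gen_iso X (EtCoh.Gm (Spec (X.presheaf.stalk (genericPoint X))))
    exact isAddTorsion_of_iso ((EtCoh.HF X (q + 1 + 1)).mapIso e'.symm) (isAddTorsion_H_push _ (q + 1) _)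

end Groth.L28.DivGen
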