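import Groth.Agent.L28.Divisor.Local
import Mathlib.RingTheory.UniqueFactorizationDomain.Basic
import Mathlib.RingTheory.KrullDimension.LocalRing
import Mathlib.RingTheory.Flat.FaithfullyFlat.Algebra

/-!
Algebra for divisors: divisibility at height one primes and valuation-like local rings.
-/

set_option autoImplicit false
set_option linter.style.haveILetI false

universe u

open IsLocalRing

namespace Groth.L28.DivGen

/-- divisibility may be tested at the prime elements -/
theorem dvd_of_forall_prime {R : Type*} [CommRing R] [IsDomain R] [UniqueFactorizationMonoid R] {a b : R}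
    (ha : a ≠ 0) (h : ∀ π : R, Prime π → ∃ s, ¬ π ∣ s ∧ a ∣ s * b) : a ∣ b := by
  obtain ⟨a', b', c', hrel, rfl, rfl⟩ := UniqueFactorizationMonoid.exists_reduced_factors a ha b
  by_cases hu : IsUnit a'
  · exact mul_dvd_mul_left _ hu.dvd
  exfalso
  obtain ⟨π, hπ, hπa⟩ := WfDvdMonoid.exists_irreducible_factor hu (right_ne_zero_of_mul ha)
  have hp : Prime π := UniqueFactorizationMonoid.irreducible_iff_prime.1 hπ
  obtain ⟨s, hs, hd⟩ := h π hp
  rw [mul_left_comm s] at hd
  have hd' : a' ∣ s * b' := (mul_dvd_mul_iff_left (left_ne_zero_of_mul ha)).1 hd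
  exact hπ.not_isUnit (hrel hπa ((hp.dvd_or_dvd (hπa.trans hd')).resolve_left hs))

/-- a noetherian local domain with principal maximal ideal has at most two primes -/
theorem eq_maximalIdeal_of_isPrime {B : Type*} [CommRing B] [IsLocalRing B] [IsNoetherianRing B] [IsDomain B]
    (τ : B) (hτ : maximalIdeal B = Ideal.span {τ}) (P : Ideal B) [P.IsPrime] (hP : P ≠ ⊥) :
    P = maximalIdeal B := by
  obtain ⟨b, hb, hb0⟩ := Submodule.exists_mem_ne_zero_of_ne_bot hP
  obtain ⟨n, e, he⟩ := Groth.L28.Divisor.exists_unit_mul_pow τ hτ b hb0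
  have hτP : τ ∈ P := by
    rw [he] at hb
    exact ‹P.IsPrime›.mem_of_pow_mem n ((‹P.IsPrime›.mem_or_mem hb).resolve_left fun h =>
      ‹P.IsPrime›.ne_top (Ideal.eq_top_of_isUnit_mem _ h e.isUnit))
  exact le_antisymm (le_maximalIdeal ‹P.IsPrime›.ne_top) (hτ.le.trans ((Ideal.span_singleton_le_iff_mem P).2 hτP))

/-- descent of dimension one -/
theorem ringKrullDim_eq_one_of_flat {A B : Type u} [CommRing A] [CommRing B] [IsLocalRing A] [IsLocalRing B]
    [IsDomain A] [IsDomain B] [IsNoetherianRing B] (φ : A →+* B) [IsLocalHom φ] (hflat : φ.Flat)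
    (hm : (maximalIdeal A).map φ = maximalIdeal B) (τ : B) (hτ : maximalIdeal B = Ideal.span {τ}) (hτ0 : τ ≠ 0) :
    ringKrullDim A = 1 := by
  algebraize [φ]
  haveI : IsLocalHom (algebraMap A B) := ‹IsLocalHom φ›
  haveI : Module.Flat A B := hflat
  haveI : Module.FaithfullyFlat A B := Module.FaithfullyFlat.of_flat_of_isLocalHom
  refine ringKrullDim_eq_one_iff_of_isLocalRing_isDomain.2 ⟨fun hA => ?_, fun x hx => ?_⟩
  · have h0 : maximalIdeal A = ⊥ := IsLocalRing.isField_iff_maximalIdeal_eq.1 hA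
    rw [h0, Ideal.map_bot, hτ, eq_comm, Ideal.span_singleton_eq_bot] at hm
    exact hτ0 hm
  · rw [Ideal.radical_eq_sInf]
    refine le_sInf fun J ⟨hJx, hJp⟩ => ?_
    obtain ⟨P, hP⟩ := PrimeSpectrum.comap_surjective_of_faithfullyFlat (B := B) ⟨J, hJp⟩
    have hP' : P.asIdeal.comap φ = J := congrArg PrimeSpectrum.asIdeal hP
    have hP0 : P.asIdeal ≠ ⊥ := fun h0 => hx (by
      have hxJ : x ∈ P.asIdeal.comap φ := hP'.symm ▸ hJx (Ideal.subset_span rfl)
      rw [Ideal.mem_comap, h0, Ideal.mem_bot] at hxJ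
      exact (map_eq_zero_iff φ (FaithfulSMul.algebraMap_injective A B)).1 hxJ)
    rw [← hP', eq_maximalIdeal_of_isPrime τ hτ P.asIdeal hP0]
    exact (IsLocalRing.maximalIdeal_comap φ).ge

/-- divisibility descends along flat local homomorphisms -/
theorem dvd_of_map_dvd {A B : Type u} [CommRing A] [CommRing B] [IsLocalRing A] [IsLocalRing B]
    (φ : A →+* B) [IsLocalHom φ] (hflat : φ.Flat) {a b : A} (h : φ a ∣ φ b) : a ∣ b := by
  algebraize [φ]
  haveI : IsLocalHom (algebraMap A B) := ‹IsLocalHom φ›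
  haveI : Module.Flat A B := hflat
  haveI : Module.FaithfullyFlat A B := Module.FaithfullyFlat.of_flat_of_isLocalHom
  rw [← Ideal.mem_span_singleton, ← Ideal.comap_map_eq_self_of_faithfullyFlat (B := B) (Ideal.span {a}),
    Ideal.mem_comap, Ideal.map_span, Set.image_singleton, Ideal.mem_span_singleton]
  exact h

end Groth.L28.DivGen
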