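import Groth.Agent.L27.LimCoh.HComp
import Groth.Agent.L28.Divisor.Units
import Groth.Prelude.Def_EtLim

/-!
Functoriality of the pullback on the cohomology of the multiplicative group.
-/

set_option autoImplicit false
set_option linter.style.haveILetI false
set_option linter.unusedSectionVars false
set_option backward.isDefEq.respectTransparency.types false

universe u

open CategoryTheory CategoryTheory.Limits AlgebraicGeometry Opposite
open Groth.L27.LimCoh

namespace Groth.L28.DivGen

variable {X Y Z : Scheme.{u}} (f : Z ⟶ Y) (g : Y ⟶ X) {k : Z ⟶ X} (w : f ≫ g = k)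

theorem GmPush_comp : EtLim.GmPush k = EtLim.GmPush g ≫ (EtCoh.push g).map (EtLim.GmPush f) ≫
    pushJoin f g w (EtCoh.Gm Z) := by
  refine Sheaf.hom_ext (NatTrans.ext (funext fun V => ConcreteCategory.hom_ext _ _ fun s => ?_))
  refine Groth.L28.Divisor.val_inj (W := ((EtCoh.bc k).obj V.unop).left) ?_
  show (fstB k V.unop).appTop (Groth.L28.Divisor.val (W := V.unop.left) s) =
    ((join f g w).app V.unop).left.appTop ((fstB f ((EtCoh.bc g).obj V.unop)).appTop
      ((fstB g V.unop).appTop (Groth.L28.Divisor.val (W := V.unop.left) s)))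
  rw [← ConcreteCategory.comp_apply (fstB g V.unop).appTop, ← Scheme.Hom.comp_appTop,
    ← ConcreteCategory.comp_apply, ← Scheme.Hom.comp_appTop, ← Category.assoc, join_fstB, midB_fstB]

variable [PreservesFiniteLimits (EtCoh.pull f)] [PreservesFiniteLimits (EtCoh.pull g)]
  [PreservesFiniteLimits (EtCoh.pull k)]

theorem HGmPull_eq {A B : Scheme.{u}} (h : A ⟶ B) [PreservesFiniteLimits (EtCoh.pull h)] (n : ℕ)
    (e : EtCoh.H B (EtCoh.Gm B) n) :
    EtLim.HGmPull h n e =
      EtLim.HpullThen h (EtCoh.Gm B) (((EtCoh.pullPushAdj h).homEquiv _ _).symm (EtLim.GmPush h)) n e := by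
  rw [HpullThen_eq, Equiv.apply_symm_apply]
  rfl

include w in
theorem HGmPull_comp (n : ℕ) (e : EtCoh.H X (EtCoh.Gm X) n) :
    EtLim.HGmPull f n (EtLim.HGmPull g n e) = EtLim.HGmPull k n e := by
  rw [HGmPull_eq f, HGmPull_eq g, HGmPull_eq k]
  exact HpullThen_comp f g w _ _ _ _ (GmPush_comp f g w) n e

end Groth.L28.DivGen
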