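import Groth.Agent.L28.DivGen.Alg
import Mathlib.AlgebraicGeometry.AffineScheme
import Mathlib.AlgebraicGeometry.Stalk
import Mathlib.AlgebraicGeometry.Noetherian

/-!
The point of codimension one belonging to a prime element of a local ring.
-/

set_option autoImplicit false
set_option linter.style.haveILetI false
set_option linter.unusedSectionVars false
set_option backward.isDefEq.respectTransparency.types false

universe u

open CategoryTheory AlgebraicGeometry IsLocalRing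

namespace Groth.L28.DivGen

variable {W : Scheme.{u}} [IsAffine W]

theorem exists_point_of_prime (w : W) [IsDomain (W.presheaf.stalk w)] (π : W.presheaf.stalk w) (hπ : Prime π) :
    ∃ (z : W) (h : z ⤳ w),
      (∀ r, ¬ π ∣ r → IsUnit (W.presheaf.stalkSpecializes h r)) ∧
      Function.Injective (W.presheaf.stalkSpecializes h) ∧
      (∀ l, ∃ r m, ¬ π ∣ m ∧ l * W.presheaf.stalkSpecializes h m = W.presheaf.stalkSpecializes h r) ∧
      ¬ IsUnit (W.presheaf.stalkSpecializes h π) := by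
  have hW : IsAffineOpen (⊤ : W.Opens) := isAffineOpen_top W
  let R := W.presheaf.stalk w
  let P : PrimeSpectrum R := ⟨Ideal.span {π}, (Ideal.span_singleton_prime hπ.ne_zero).2 hπ⟩
  let z := W.fromSpecStalk w P
  have hzw : z ⤳ w := by
    have hmem : z ∈ Set.range (W.fromSpecStalk w) := ⟨P, rfl⟩
    rwa [Scheme.range_fromSpecStalk] at hmem
  letI := W.presheaf.algebra_section_stalk (U := (⊤ : W.Opens)) ⟨w, trivial⟩
  letI := W.presheaf.algebra_section_stalk (U := (⊤ : W.Opens)) ⟨z, trivial⟩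
  haveI := hW.isLocalization_stalk ⟨w, trivial⟩
  haveI := hW.isLocalization_stalk ⟨z, trivial⟩
  let p := (hW.primeIdealOf ⟨w, trivial⟩).asIdeal
  let q := (hW.primeIdealOf ⟨z, trivial⟩).asIdeal
  let σ : R →+* W.presheaf.stalk z := (W.presheaf.stalkSpecializes hzw).hom
  have hσ : ∀ a : Γ(W, ⊤), σ (algebraMap Γ(W, ⊤) R a) = algebraMap Γ(W, ⊤) (W.presheaf.stalk z) a := fun a =>
    W.presheaf.germ_stalkSpecializes_apply (U := ⊤) trivial hzw a
  have hq : ∀ a : Γ(W, ⊤), a ∈ q ↔ π ∣ algebraMap Γ(W, ⊤) R a := fun a => by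
    have e : hW.primeIdealOf ⟨z, trivial⟩ = PrimeSpectrum.comap (W.presheaf.germ ⊤ w trivial).hom P := by
      refine hW.fromSpec.isOpenEmbedding.injective ?_
      rw [hW.fromSpec_primeIdealOf]
      show z = hW.fromSpec ((Spec.map (W.presheaf.germ ⊤ w trivial)) P)
      rw [← Scheme.Hom.comp_apply]
      show z = hW.fromSpecStalk (x := w) trivial P
      rw [hW.fromSpecStalk_eq_fromSpecStalk]
    show a ∈ (hW.primeIdealOf ⟨z, trivial⟩).asIdeal ↔ _
    rw [e]
    show algebraMap Γ(W, ⊤) R a ∈ Ideal.span {π} ↔ _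
    exact Ideal.mem_span_singleton
  have hsurj : ∀ r : R, ∃ (a : Γ(W, ⊤)) (u : R), IsUnit u ∧ r * u = algebraMap Γ(W, ⊤) R a := fun r => by
    obtain ⟨⟨a, m⟩, hm⟩ := IsLocalization.surj p.primeCompl r
    exact ⟨a, _, IsLocalization.map_units R m, hm⟩
  have h1 : ∀ r, ¬ π ∣ r → IsUnit (σ r) := fun r hr => by
    obtain ⟨a, u, hu, hru⟩ := hsurj r
    have ha : a ∉ q := fun h => hr ((hu.dvd_mul_right).1 (hru ▸ (hq a).1 h))
    have h2 : IsUnit (σ (r * u)) := by
      rw [hru, hσ]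
      exact IsLocalization.map_units (W.presheaf.stalk z) (⟨a, ha⟩ : q.primeCompl)
    rw [map_mul] at h2
    exact isUnit_of_mul_isUnit_left h2
  refine ⟨z, hzw, h1, (injective_iff_map_eq_zero σ).2 fun r hr => ?_, fun l => ?_, fun hu => ?_⟩
  · obtain ⟨a, u, hu, hru⟩ := hsurj r
    have h0 : algebraMap Γ(W, ⊤) (W.presheaf.stalk z) a = 0 := by rw [← hσ, ← hru, map_mul, hr, zero_mul]
    obtain ⟨⟨m, hm⟩, he⟩ := (IsLocalization.map_eq_zero_iff q.primeCompl _ a).1 h0
    have he' := congrArg (algebraMap Γ(W, ⊤) R) he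
    rw [map_mul, map_zero, ← hru] at he'
    rcases mul_eq_zero.1 he' with h | h
    · exact absurd ((hq m).2 (h ▸ dvd_zero π)) hm
    · exact (mul_eq_zero.1 h).resolve_right hu.ne_zero
  · obtain ⟨⟨a, ⟨m, hm⟩⟩, he⟩ := IsLocalization.surj q.primeCompl l
    refine ⟨algebraMap Γ(W, ⊤) R a, algebraMap Γ(W, ⊤) R m, fun h => hm ((hq m).2 h), ?_⟩
    show l * σ _ = σ _
    rw [hσ, hσ]
    exact he
  · obtain ⟨a, u, hu', hru⟩ := hsurj π
    have h2 : IsUnit (algebraMap Γ(W, ⊤) (W.presheaf.stalk z) a) := by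
      rw [← hσ, ← hru, map_mul]
      exact hu.mul (hu'.map σ)
    exact (IsLocalization.AtPrime.isUnit_to_map_iff (W.presheaf.stalk z) q a).1 h2 ((hq a).2 ⟨u, hru.symm⟩)

/-- the maximal ideal at the point of codimension one -/
theorem maximalIdeal_eq_of_prime (w z : W) [IsDomain (W.presheaf.stalk w)] (π : W.presheaf.stalk w) (h : z ⤳ w)
    (h1 : ∀ r, ¬ π ∣ r → IsUnit (W.presheaf.stalkSpecializes h r))
    (h2 : ∀ l, ∃ r m, ¬ π ∣ m ∧ l * W.presheaf.stalkSpecializes h m = W.presheaf.stalkSpecializes h r)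
    (h3 : ¬ IsUnit (W.presheaf.stalkSpecializes h π)) :
    maximalIdeal (W.presheaf.stalk z) = Ideal.span {W.presheaf.stalkSpecializes h π} := by
  refine le_antisymm (fun l hl => ?_) ((Ideal.span_singleton_le_iff_mem _).2 h3)
  obtain ⟨r, m, hm, he⟩ := h2 l
  have hr : π ∣ r := by
    by_contra hr
    have hu := h1 r hr
    rw [← he] at hu
    exact hl (isUnit_of_mul_isUnit_left hu)
  obtain ⟨r', rfl⟩ := hr
  rw [Ideal.mem_span_singleton, ← (h1 m hm).dvd_mul_right]
  exact ⟨W.presheaf.stalkSpecializes h r', he.trans (map_mul _ _ _)⟩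

/-- divisibility at the point of codimension one -/
theorem exists_dvd_of_dvd (w z : W) (π : W.presheaf.stalk w) (h : z ⤳ w)
    (hi : Function.Injective (W.presheaf.stalkSpecializes h))
    (h2 : ∀ l, ∃ r m, ¬ π ∣ m ∧ l * W.presheaf.stalkSpecializes h m = W.presheaf.stalkSpecializes h r)
    {a b : W.presheaf.stalk w} (hd : W.presheaf.stalkSpecializes h a ∣ W.presheaf.stalkSpecializes h b) :
    ∃ s, ¬ π ∣ s ∧ a ∣ s * b := by
  obtain ⟨l, hl⟩ := hd
  obtain ⟨r, m, hm, he⟩ := h2 l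
  refine ⟨m, hm, r, hi ?_⟩
  rw [map_mul, map_mul, hl, mul_left_comm, mul_comm _ l, he]

end Groth.L28.DivGen
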