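import Groth.Agent.L28.DivGen.Total
import Groth.Agent.L28.GmH1.ThickPush
import Groth.Agent.S3243
import Groth.Agent.S6641
import Groth.Agent.L28.CurveCd.GmStalk

/-!
The second cohomology of the multiplicative group injects into that of the generic point.
-/

set_option autoImplicit false
set_option linter.style.haveILetI false
set_option linter.unusedSectionVars false
set_option backward.isDefEq.respectTransparency.types false

universe u

open CategoryTheory CategoryTheory.Limits AlgebraicGeometry Opposite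
open Groth.L28.Divisor

namespace Groth.L28.DivGen

variable (X : Scheme.{u}) [AlgebraicGeometry.IsIntegral X] [AlgebraicGeometry.IsNoetherian X]

theorem subsingleton_H_skyz (x : Pt X) : Subsingleton (EtCoh.H X (Skyz X x) 1) :=
  Groth.Agent.S3243.result X x.1 ℤ

theorem subsingleton_H_cofan (c : Cofan (Skyz X)) (hc : IsColimit c) : Subsingleton (EtCoh.H X c.pt 1) :=
  Groth.Agent.S6641.subsingleton_coprod X (Skyz X) 1 (subsingleton_H_skyz X) c hc

theorem eq_zero_of_HGmPull_gen (hfact : Fact X) [PreservesFiniteLimits (EtCoh.pull (gen X))]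
    (ξ : EtCoh.H X (EtCoh.Gm X) 2) (hξ : EtLim.HGmPull (gen X) 2 ξ = 0) : ξ = 0 := by
  haveI : HasColimitsOfSize.{u, u} (EtCoh.Ab X) := hasColimitsOfSizeShrink.{u, u, u + 1, u + 1} _
  let c : Cofan (Skyz X) := colimit.cocone _
  obtain ⟨e⟩ := nonempty_cokernel_iso hfact c (colimit.isColimit _)
  let E : ShortComplex (EtCoh.Ab X) := ShortComplex.mk (φ X) (proj X) (cokernel.condition _)
  haveI : Mono E.f := mono_φ (X := X)
  haveI : Epi E.g := inferInstanceAs (Epi (cokernel.π (φ X)))
  have hE : E.ShortExact := { exact := ShortComplex.exact_of_g_is_cokernel _ (cokernelIsCokernel _) }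
  have hmax : ∀ y : X, y ⤳ genericPoint X → y = genericPoint X := fun y hy =>
    (hy.antisymm ((genericPoint_spec X).specializes trivial)).eq
  haveI := Groth.L28.CurveCd.subsingleton_spec_stalk (genericPoint X) hmax
  haveI := Groth.L28.CurveCd.isAffineHom_fromSpecStalk (genericPoint X) hmax
  let j : Spec (X.presheaf.stalk (genericPoint X)) ⟶ X := gen X
  obtain ⟨-, h2⟩ := Groth.L28.GmH1.push_Gm_thick j (fun W hW => IsAffineHom.isAffine_preimage (f := j) W hW)
  have h0 : (EtCoh.HF X 2).map E.f ξ = 0 := h2 (Eq.trans hξ (map_zero _).symm)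
  haveI : Subsingleton (EtCoh.H X c.pt 1) := subsingleton_H_cofan X c (colimit.isColimit _)
  haveI : Subsingleton (EtCoh.H X E.X₃ 1) := (Groth.L28.CurveCd.subsingleton_H_of_iso e.symm 1 inferInstance)
  obtain ⟨a, ha⟩ := Abelian.Ext.covariant_sequence_exact₁ _ hE ξ ((Groth.L27.EtSite.HF_map_apply E.f 2 ξ).symm.trans h0) rfl
  rw [← ha, Subsingleton.elim (α := EtCoh.H X E.X₃ 1) a 0]
  simp

end Groth.L28.DivGen
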