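import Groth.Agent.L28.CurveCd.GmPoint

/-!
Germs of sections of a sheaf pulled back to a point of a scheme.
-/

set_option autoImplicit false
set_option linter.style.haveILetI false
set_option linter.unusedSectionVars false
set_option backward.isDefEq.respectTransparency.types false

universe u

open CategoryTheory CategoryTheory.Limits AlgebraicGeometry Opposite GrothendieckTopology
open Groth.L27.EtSite Groth.L28.Sky Groth.L28.CurveCd

namespace Groth.L28.DivGen

variable {X Y : Scheme.{u}} (f : X ⟶ Y) {Ω : Type u} [Field Ω] [IsSepClosed Ω]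
  (η : Spec (CommRingCat.of Ω) ⟶ X)

theorem stalkPush_germ (F : EtCoh.Ab X) (V : Y.Etale) (y : (Scheme.pointSmallEtale (η ≫ f)).fiber.obj V)
    (σ : ((EtCoh.push f).obj F).obj.obj (op V)) :
    stalkPush f η F (germ (η ≫ f) V y σ) = germ η ((EtCoh.bc f).obj V) (liftJ f η y) σ := by
  let Φ' := (Scheme.pointSmallEtale η).comap (EtCoh.bc f) (EtCoh.coverPreserving_bc f)
  have e1 : (Scheme.pointSmallEtale (η ≫ f)).toPresheafFiber V y ((EtCoh.push f).obj F).obj ≫
      (comapPointIso f η).inv.presheafFiber.app ((EtCoh.push f).obj F).obj =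
      Φ'.toPresheafFiber V ((fiberBcIso f η).inv.app V y) ((EtCoh.push f).obj F).obj :=
    by
      simp only [Point.Hom.presheafFiber_app, Point.toPresheafFiber_presheafFiberDesc]
      rfl
  have e2 : Φ'.toPresheafFiber V ((fiberBcIso f η).inv.app V y) ((EtCoh.bc f).op ⋙ F.obj) ≫
      comapPushDesc (Scheme.pointSmallEtale η) (EtCoh.bc f) (EtCoh.coverPreserving_bc f) AddCommGrpCat.{u + 1} F.obj =
      (Scheme.pointSmallEtale η).toPresheafFiber ((EtCoh.bc f).obj V) ((fiberBcIso f η).inv.app V y) F.obj :=
    Φ'.toPresheafFiber_presheafFiberDesc _ _ V _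
  refine (ConcreteCategory.comp_apply _ _ _).trans ?_
  refine (congrArg _ (ConcreteCategory.congr_hom e1 σ)).trans ?_
  exact ConcreteCategory.congr_hom e2 σ

theorem bijective_stalkPush_point (x : Y) (η : Spec (CommRingCat.of Ω) ⟶ Spec (Y.residueField x))
    (F : EtCoh.Ab (Spec (Y.residueField x))) :
    Function.Bijective (stalkPush (Y.fromSpecResidueField x) η F) := by
  haveI : IsIso (stalkPush (Y.fromSpecResidueField x) η F) :=
    IsIso.comp_isIso' inferInstance ((ConcreteCategory.isIso_iff_bijective _).2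
      (bijective_comapPushDesc (Scheme.pointSmallEtale η) (EtCoh.bc (Y.fromSpecResidueField x))
        (EtCoh.coverPreserving_bc _) AddCommGrpCat.{u + 1} (exists_nbhd_into x η)
        (exists_agree (Y.fromSpecResidueField x) η) F.obj))
  exact ConcreteCategory.bijective_of_isIso _

variable (x : Y) (v : Spec (CommRingCat.of Ω) ⟶ Spec (Y.residueField x))

theorem default_base : (v ≫ Y.fromSpecResidueField x).base (default : Spec (CommRingCat.of Ω)) = x :=
  (Y.range_fromSpecResidueField x).le ⟨v (default : Spec (CommRingCat.of Ω)), (Scheme.Hom.comp_apply v (Y.fromSpecResidueField x) _).symm⟩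

/-- the stalk of the inverse image at a point -/
noncomputable def toPt (F : EtCoh.Ab Y) :
    (EtCoh.stalk (v ≫ Y.fromSpecResidueField x)).obj F ⟶
      (EtCoh.stalk v).obj ((EtCoh.pull (Y.fromSpecResidueField x)).obj F) :=
  (EtCoh.stalk (v ≫ Y.fromSpecResidueField x)).map ((EtCoh.pullPushAdj (Y.fromSpecResidueField x)).unit.app F) ≫
    stalkPush (Y.fromSpecResidueField x) v _

theorem bijective_toPt (F : EtCoh.Ab Y) : Function.Bijective (toPt x v F) :=
  (bijective_stalkPush_point x v _).comp (bijective_stalk_unit x _ (default_base x v) F)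

theorem toPt_germ (F : EtCoh.Ab Y) (V : Y.Etale)
    (y : (Scheme.pointSmallEtale (v ≫ Y.fromSpecResidueField x)).fiber.obj V) (s : F.obj.obj (op V)) :
    toPt x v F (germ _ V y s) = germ v ((EtCoh.bc (Y.fromSpecResidueField x)).obj V) (liftJ _ v y)
      (((EtCoh.pullPushAdj (Y.fromSpecResidueField x)).unit.app F).hom.app (op V) s) := by
  refine (ConcreteCategory.comp_apply _ _ _).trans ?_
  exact (congrArg _ (stalk_map_germ _ _ V y s)).trans (stalkPush_germ _ v _ V y _)

/-- every point of the fibre comes from below -/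
theorem exists_liftJ {V : Y.Etale} (y' : (Scheme.pointSmallEtale η).fiber.obj ((EtCoh.bc f).obj V)) :
    ∃ y, liftJ f η y = y' := by
  exact ⟨((fiberBcIso f η).app V).toEquiv y', ((fiberBcIso f η).app V).toEquiv.symm_apply_apply y'⟩

/-- a sheaf has no nonzero section which vanishes at all geometric points of the point -/
theorem push_eq_zero (G : EtCoh.Ab (Spec (Y.residueField x))) (V : Y.Etale)
    (σ : ((EtCoh.push (Y.fromSpecResidueField x)).obj G).obj.obj (op V))
    (h : ∀ (Ω' : Type u) [Field Ω'] [IsSepClosed Ω'] (v' : Spec (CommRingCat.of Ω') ⟶ Spec (Y.residueField x))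
      (y : (Scheme.pointSmallEtale (v' ≫ Y.fromSpecResidueField x)).fiber.obj V), germ _ V y σ = 0) : σ = 0 := by
  refine eq_zero_of_germs (U := (EtCoh.bc (Y.fromSpecResidueField x)).obj V) σ fun Ω' _ _ v' y' => ?_
  obtain ⟨y, rfl⟩ := exists_liftJ (Y.fromSpecResidueField x) v' y'
  refine (stalkPush_germ _ v' G V y σ).symm.trans ?_
  rw [h Ω' v' y]
  exact map_zero _

end Groth.L28.DivGen
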