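import Groth.Agent.L28.DivGen.Germ
import Groth.Agent.L28.DivGen.PtPull

/-!
The order map at a point of codimension one.
-/

set_option autoImplicit false
set_option linter.style.haveILetI false
set_option linter.unusedSectionVars false
set_option backward.isDefEq.respectTransparency.types false

universe u

open CategoryTheory CategoryTheory.Limits AlgebraicGeometry Opposite IsLocalRing
open Groth.L27.MV (oE oTop oHom)
open Groth.L27.EtSite (stalkPush)
open Groth.L28.Sky Groth.L28.Divisor Groth.L28.CurveCd

namespace Groth.L28.DivGen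

variable {X : Scheme.{u}} [AlgebraicGeometry.IsIntegral X] {x : X} (C : UChart x)

/-- the section of the base change of a chart -/
theorem exists_sect : Nonempty (EtCoh.top (Spec (X.residueField x)) ⟶
    (EtCoh.bc (X.fromSpecResidueField x)).obj (oE C.U)) := by
  let i := X.fromSpecResidueField x
  have hι : IsOpenImmersion C.U.ι := inferInstance
  have hr : Set.range i ⊆ Set.range C.U.ι := by
    rintro _ ⟨z, rfl⟩
    refine C.U.range_ι.ge ?_
    have h : i z = x := (X.range_fromSpecResidueField x).le ⟨z, rfl⟩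
    show i z ∈ C.U
    rw [h]
    exact C.hxU
  let l := IsOpenImmersion.lift C.U.ι i hr
  exact ⟨MorphismProperty.Over.homMk (pullback.lift l (𝟙 _) ((IsOpenImmersion.lift_fac C.U.ι i hr).trans (Category.id_comp i).symm))
    (pullback.lift_snd _ _ _)⟩

/-- the morphism from the constant sheaf to the stalk of the divisors -/
noncomputable def qx : EtCoh.const (Spec (X.residueField x)) ℤ ⟶
    (EtCoh.pull (X.fromSpecResidueField x)).obj (Q X) :=
  constHom (((EtCoh.pull (X.fromSpecResidueField x)).obj (Q X)).obj.map (exists_sect C).some.op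
    (((EtCoh.pullPushAdj (X.fromSpecResidueField x)).unit.app (Q X)).hom.app (op (oE C.U)) C.τQ))

variable {Ω : Type u} [Field Ω] [IsSepClosed Ω] (η : Spec (CommRingCat.of Ω) ⟶ Spec (X.residueField x))

theorem exists_qx_one : ∃ yU : (Scheme.pointSmallEtale (η ≫ X.fromSpecResidueField x)).fiber.obj (oE C.U),
    (EtCoh.stalk η).map (qx C) (onePt η) = toPt x η (Q X) (germ _ (oE C.U) yU C.τQ) := by
  obtain ⟨yU, hy⟩ := exists_liftJ (X.fromSpecResidueField x) η
    ((Scheme.pointSmallEtale η).fiber.map (exists_sect C).some (topPt η))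
  refine ⟨yU, ?_⟩
  rw [toPt_germ, hy]
  refine (stalk_map_germ_one η (qx C) _ _).trans ?_
  rw [qx, constHom_one, (EtCore.topIsTerminal (Spec (X.residueField x))).hom_ext
    ((EtCore.topIsTerminal (Spec (X.residueField x))).from (EtCoh.top (Spec (X.residueField x)))) (𝟙 _), op_id,
    Functor.map_id_apply]
  exact germ_res η _ _ _

theorem isIso_qx [IsLocallyNoetherian X] : IsIso (qx C) := by
  have key : ∀ (Ω : Type u) [Field Ω] [IsSepClosed Ω] (η : Spec (CommRingCat.of Ω) ⟶ Spec (X.residueField x)),
      Function.Bijective ((EtCoh.stalk η).map (qx C)) := fun Ω _ _ η => by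
    obtain ⟨yU, hy⟩ := exists_qx_one C η
    refine ⟨(injective_iff_map_eq_zero _).2 fun z hz => ?_, fun z => ?_⟩
    · obtain ⟨n, rfl⟩ := exists_eq_zsmul η _ (topPt η) z
      rw [map_zsmul, hy, ← map_zsmul] at hz
      rw [eq_zero_of_zsmul_τQ C _ (default_base x η) yU n
        ((bijective_toPt x η (Q X)).1 (hz.trans (map_zero _).symm)), zero_smul]
    · obtain ⟨w, rfl⟩ := (bijective_toPt x η (Q X)).2 z
      obtain ⟨n, rfl⟩ := exists_eq_zsmul_τQ C _ (default_base x η) yU w
      exact ⟨n • onePt η, by rw [map_zsmul, hy, map_zsmul]⟩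
  haveI : Mono (qx C) := (Groth.L27.EtSite.mono_iff_stalks _).2 fun Ω _ _ η => (key Ω η).1
  haveI : Epi (qx C) := (Groth.L27.EtSite.epi_iff_stalks _).2 fun Ω _ _ η => (key Ω η).2
  exact isIso_of_mono_of_epi _

variable [IsLocallyNoetherian X]

/-- the order at a point of codimension one -/
noncomputable def ordAt : Q X ⟶ (EtCoh.push (X.fromSpecResidueField x)).obj (EtCoh.const (Spec (X.residueField x)) ℤ) :=
  (EtCoh.pullPushAdj (X.fromSpecResidueField x)).unit.app (Q X) ≫
    (EtCoh.push (X.fromSpecResidueField x)).map (@inv _ _ _ _ (qx C) (isIso_qx C))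

theorem bijective_stalk_ordAt (ξ : Spec (CommRingCat.of Ω) ⟶ X) (hξ : ξ.base default = x) :
    Function.Bijective ((EtCoh.stalk ξ).map (ordAt C)) := by
  haveI := isIso_qx C
  haveI : IsIso ((EtCoh.stalk ξ).map ((EtCoh.pullPushAdj (X.fromSpecResidueField x)).unit.app (Q X))) :=
    (ConcreteCategory.isIso_iff_bijective _).2 (bijective_stalk_unit x ξ hξ (Q X))
  haveI : IsIso ((EtCoh.stalk ξ).map (ordAt C)) := by
    rw [ordAt, Functor.map_comp]
    infer_instance
  exact ConcreteCategory.bijective_of_isIso _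

omit [AlgebraicGeometry.IsIntegral X] [IsLocallyNoetherian X] in
/-- sections of the skyscraper agree if their germs over the point do -/
theorem push_ext {x : X} {V : X.Etale} {G : EtCoh.Ab (Spec (X.residueField x))}
    (a b : ((EtCoh.push (X.fromSpecResidueField x)).obj G).obj.obj (op V))
    (h : ∀ (Ω' : Type u) [Field Ω'] [IsSepClosed Ω'] (ξ' : Spec (CommRingCat.of Ω') ⟶ X),
      ξ'.base default = x → ∀ y : (Scheme.pointSmallEtale ξ').fiber.obj V, germ ξ' V y a = germ ξ' V y b) : a = b := by
  refine sub_eq_zero.1 (push_eq_zero x G V _ fun Ω' _ _ v y => ?_)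
  refine (map_sub _ _ _).trans ?_
  exact sub_eq_zero.2 (h Ω' _ (default_base x v) y)

/-- the order of a rational function vanishes if it is a unit at all points over the point -/
theorem ordAt_eq_zero {V : X.Etale} (s : (P X).obj.obj (op V))
    (h : ∀ z : V.left, V.hom z = x → UnitAt V s z) :
    (ordAt C).hom.app (op V) ((proj X).hom.app (op V) s) = 0 := by
  refine push_ext _ _ fun Ω' _ _ ξ' hξ' y => ?_
  rw [← stalk_map_germ, (germ_proj_eq_zero_iff ξ' y s).2 (h _ ((Groth.L27.EtSite.fiber_apply y).trans hξ')), map_zero]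
  exact (map_zero _).symm

end Groth.L28.DivGen
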