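import Groth.Agent.L28.DivGen.Codim

/-!
Orders of rational functions at points of codimension one: local equations and finiteness.
-/

set_option autoImplicit false
set_option linter.style.haveILetI false
set_option linter.unusedSectionVars false
set_option backward.isDefEq.respectTransparency.types false

universe u

open CategoryTheory CategoryTheory.Limits AlgebraicGeometry Opposite IsLocalRing
open Groth.L28.Divisor

namespace Groth.L28.DivGen

variable {X : Scheme.{u}} [AlgebraicGeometry.IsIntegral X] [IsLocallyNoetherian X] (hfact : Fact X)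
  {U : X.Opens} (hU : IsAffineOpen U) {V : X.Etale} [IsAffine V.left]

include hfact hU in
/-- a rational function which is a unit at all nearby points of codimension one is a unit -/
theorem exists_open_of_forall_unitAt (hV : ⊤ ≤ (V.hom : V.left ⟶ X) ⁻¹ᵁ U) (s : (P X).obj.obj (op V)) (v : V.left)
    (h : ∀ z : V.left, z ⤳ v → CodimOne (V.hom : V.left ⟶ X) z → UnitAt V s z) :
    ∃ (V' : X.Etale) (g : V' ⟶ V) (v' : V'.left) (c : (EtCoh.Gm X).obj.obj (op V')),
      g.left v' = v ∧ IsOpenImmersion g.left ∧ (P X).obj.map g.op s = (φ X).hom.app (op V') c := by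
  haveI : Nonempty U := ⟨⟨V.hom v, hV trivial⟩⟩
  let f : V.left ⟶ X := V.hom
  haveI : AlgebraicGeometry.Etale f := V.prop
  haveI : IsLocallyNoetherian V.left := LocallyOfFiniteType.isLocallyNoetherian f
  obtain ⟨b, a, hf, hne⟩ := exists_isFrac hU V hV s
  haveI := (hfact V v).1
  haveI := (hfact V v).2
  refine exists_open_of_associated V hf v ?_
  have key : ∀ π : V.left.presheaf.stalk v, Prime π →
      (∃ t, ¬ π ∣ t ∧ grm v a ∣ t * grm v b) ∧ (∃ t, ¬ π ∣ t ∧ grm v b ∣ t * grm v a) := fun π hπ => by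
    obtain ⟨z, hzv, h1, hinj, h2, h3⟩ := exists_point_of_prime v π hπ
    haveI := (hfact V z).1
    have hz : CodimOne f z := codimOne_of_principal hfact z _ (fun h0 => hπ.ne_zero (hinj (h0.trans (map_zero _).symm)))
      (maximalIdeal_eq_of_prime v z π hzv h1 h2 h3)
    have hd := dvd_of_unitAt hU V hV hf z (h z hzv hz)
    have hσ : ∀ r : Γ(V.left, ⊤), V.left.presheaf.stalkSpecializes hzv (grm v r) = grm z r := fun r =>
      V.left.presheaf.germ_stalkSpecializes_apply (U := ⊤) trivial hzv r
    rw [← hσ, ← hσ] at hd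
    exact ⟨exists_dvd_of_dvd v z π hzv hinj h2 hd.1, exists_dvd_of_dvd v z π hzv hinj h2 hd.2⟩
  exact associated_of_dvd_dvd (dvd_of_forall_prime (hne v).2 fun π hπ => (key π hπ).1)
    (dvd_of_forall_prime (hne v).1 fun π hπ => (key π hπ).2)

include hfact hU in
/-- only finitely many points of codimension one where a rational function is no unit -/
theorem finite_not_unitAt (hV : ⊤ ≤ (V.hom : V.left ⟶ X) ⁻¹ᵁ U) (s : (P X).obj.obj (op V)) :
    {z : V.left | CodimOne (V.hom : V.left ⟶ X) z ∧ ¬ UnitAt V s z}.Finite := by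
  rcases isEmpty_or_nonempty V.left with hE | ⟨⟨v⟩⟩
  · exact Set.toFinite _
  haveI : Nonempty U := ⟨⟨V.hom v, hV trivial⟩⟩
  obtain ⟨b, a, hf, hne⟩ := exists_isFrac hU V hV s
  refine ((finite_codimOne_nonunit hfact a).union (finite_codimOne_nonunit hfact b)).subset ?_
  rintro z ⟨hz, hs⟩
  by_contra hn
  rw [Set.mem_union, not_or] at hn
  have ha : IsUnit (grm z a) := by_contra fun h => hn.1 ⟨hz, (hne z).2, h⟩
  have hb : IsUnit (grm z b) := by_contra fun h => hn.2 ⟨hz, (hne z).1, h⟩
  obtain ⟨V', g, v', c, h1, -, h2⟩ :=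
    exists_open_of_associated V hf z ((associated_one_iff_isUnit.2 ha).trans (associated_one_iff_isUnit.2 hb).symm)
  exact hs ⟨V', g, v', c, h1, h2⟩

omit [IsLocallyNoetherian X] [IsAffine V.left] in
theorem grm_appTop {V' : X.Etale} (g : V' ⟶ V) (z : V'.left) (a : Γ(V.left, ⊤)) :
    grm (W := V'.left) z (g.left.appTop a) = g.left.stalkMap z (grm (W := V.left) (g.left z) a) :=
  (Scheme.Hom.germ_stalkMap_apply g.left ⊤ z trivial a).symm

include hfact in
/-- functions which do not vanish at the generic fibre are units there -/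
theorem isUnit_res_of_ne_zero (W : X.Etale) (a : Γ(W.left, ⊤))
    (h : ∀ q : W.left, W.hom q = genericPoint X → grm (W := W.left) q a ≠ 0) :
    IsUnit (res (X := X) (W := W.left) W.hom a) := by
  let f : W.left ⟶ X := W.hom
  haveI : AlgebraicGeometry.Etale f := W.prop
  let Pb : Scheme.{u} := pullback f (gen X)
  let p : Pb ⟶ W.left := pullback.fst f (gen X)
  refine Pb.toRingedSpace.isUnit_of_isUnit_germ ⊤ _ fun t _ => ?_
  show IsUnit (Pb.presheaf.germ ⊤ t trivial (p.appTop a))
  have e : Pb.presheaf.germ ⊤ t trivial (p.appTop a) = p.stalkMap t (grm (p t) a) :=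
    (Scheme.Hom.germ_stalkMap_apply p ⊤ t trivial a).symm
  rw [e]
  have hq : f (p t) = genericPoint X := by
    have h1 : f (p t) = gen X (pullback.snd f (gen X) t) :=
      (Scheme.Hom.comp_apply _ _ _).symm.trans ((congrArg (fun k : Pb ⟶ X => k t) pullback.condition).trans
        (Scheme.Hom.comp_apply _ _ _))
    have h2 : gen X (pullback.snd f (gen X) t) ∈ Set.range (gen X) := ⟨_, rfl⟩
    rw [Scheme.range_fromSpecStalk] at h2
    exact (h1.symm ▸ h2 : f (p t) ⤳ genericPoint X).antisymm ((genericPoint_spec X).specializes trivial) |>.eq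
  haveI := (hfact W (p t)).1
  have hm : maximalIdeal (W.left.presheaf.stalk (p t)) = ⊥ := by
    rw [← Groth.L21.CurvFib.map_maximalIdeal_stalkMap_of_etale f (p t)]
    have h0 : maximalIdeal (X.presheaf.stalk (f (p t))) = ⊥ := by
      rw [hq]; exact maximalIdeal_eq_bot (R := X.functionField)
    rw [h0, Ideal.map_bot]
  refine IsUnit.map _ (by_contra fun hu => h (p t) hq ?_)
  exact (Submodule.mem_bot _).1 (hm.le ((mem_maximalIdeal _).2 hu))

include hfact in
/-- a local equation of a point of codimension one -/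
theorem exists_equation (v z : V.left) (hzv : z ⤳ v) (hz : CodimOne (V.hom : V.left ⟶ X) z) :
    ∃ (O : V.left.Opens) (a : Γ(V.left, ⊤)), v ∈ O ∧ maximalIdeal (V.left.presheaf.stalk z) = Ideal.span {grm z a} ∧
      (∀ q ∈ O, V.hom q = genericPoint X → grm q a ≠ 0) ∧
      ∀ y ∈ O, CodimOne (V.hom : V.left ⟶ X) y → y ≠ z → IsUnit (grm y a) := by
  let f : V.left ⟶ X := V.hom
  haveI : AlgebraicGeometry.Etale f := V.prop
  haveI : IsLocallyNoetherian V.left := LocallyOfFiniteType.isLocallyNoetherian f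
  haveI := (hfact V v).1
  haveI := (hfact V v).2
  haveI := (hfact V z).1
  obtain ⟨τ, hτ0, hτ⟩ := exists_uniformizer hfact z hz
  have hW : IsAffineOpen (⊤ : V.left.Opens) := isAffineOpen_top V.left
  letI := V.left.presheaf.algebra_section_stalk (U := (⊤ : V.left.Opens)) ⟨z, trivial⟩
  letI := V.left.presheaf.algebra_section_stalk (U := (⊤ : V.left.Opens)) ⟨v, trivial⟩
  haveI := hW.isLocalization_stalk ⟨z, trivial⟩
  haveI := hW.isLocalization_stalk ⟨v, trivial⟩
  have hσ : ∀ r : Γ(V.left, ⊤), V.left.presheaf.stalkSpecializes hzv (grm v r) = grm z r := fun r =>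
    V.left.presheaf.germ_stalkSpecializes_apply (U := ⊤) trivial hzv r
  obtain ⟨⟨a₀, u⟩, ha₀⟩ := IsLocalization.surj (hW.primeIdealOf ⟨z, trivial⟩).asIdeal.primeCompl τ
  have ha₀' : Associated τ (grm z a₀) := ⟨(IsLocalization.map_units (V.left.presheaf.stalk z) u).unit, ha₀⟩
  have hπ : ∃ π : V.left.presheaf.stalk v, Prime π ∧ Associated τ (V.left.presheaf.stalkSpecializes hzv π) := by
    have hne : grm v a₀ ≠ 0 := fun h0 => hτ0 (ha₀'.eq_zero_iff.2 (by rw [← hσ, h0]; exact map_zero _))
    have hτp : Prime τ := by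
      refine ⟨hτ0, fun hu => (maximalIdeal.isMaximal _).ne_top (hτ.trans (Ideal.span_singleton_eq_top.2 hu)),
        (Ideal.span_singleton_prime hτ0).1 (hτ ▸ inferInstance) |>.2.2⟩
    revert hne
    refine fun hne => ?_
    have hgen : Prime (V.left.presheaf.stalkSpecializes hzv (grm v a₀)) := by rw [hσ]; exact ha₀'.prime hτp
    rw [← hσ] at ha₀'
    generalize grm v a₀ = r at hne hgen ha₀'
    induction r using UniqueFactorizationMonoid.induction_on_prime with
    | h₁ => exact absurd rfl hne
    | h₂ x hx => exact absurd (hx.map (V.left.presheaf.stalkSpecializes hzv).hom) hgen.not_isUnit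
    | h₃ x p hx hp ih =>
      rw [map_mul] at hgen ha₀'
      rcases of_irreducible_mul hgen.irreducible with h | h
      · exact ih hx ((associated_unit_mul_left _ _ h).prime hgen) (ha₀'.trans (associated_unit_mul_left _ _ h))
      · exact ⟨p, hp, ha₀'.trans (associated_mul_unit_left _ _ h)⟩
  obtain ⟨π, hπp, hπz⟩ := hπ
  obtain ⟨⟨a, m⟩, ham⟩ := IsLocalization.surj (hW.primeIdealOf ⟨v, trivial⟩).asIdeal.primeCompl π
  have hva : Associated π (grm v a) := ⟨(IsLocalization.map_units (V.left.presheaf.stalk v) m).unit, ham⟩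
  have hza : Associated τ (grm z a) := hπz.trans (by
    rw [← hσ]; exact hva.map (V.left.presheaf.stalkSpecializes hzv).hom)
  have hane : grm v a ≠ 0 := fun h0 => hπp.ne_zero (hva.eq_zero_iff.2 h0)
  haveI : LocallyQuasiFinite f := inferInstance
  haveI : CompactSpace V.left := isCompact_univ_iff.1 (isAffineOpen_top V.left).isCompact
  haveI : QuasiCompact f := inferInstance
  obtain ⟨O₁, hO₁, hO₁'⟩ := exists_open_specializes v (finite_codimOne_nonunit hfact a)
  obtain ⟨O₂, hO₂, hO₂'⟩ := exists_open_specializes v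
    (f.finite_preimage_singleton (genericPoint X))
  refine ⟨O₁ ⊓ O₂, a, ⟨hO₁, hO₂⟩, hτ.trans (Ideal.span_singleton_eq_span_singleton.2 hza), fun q hq hqg h0 => ?_,
    fun y hy hyc hne => by_contra fun hu => ?_⟩
  · refine hane (germ_injective_of_specializes hfact (hO₂' q hqg hq.2) ?_)
    rw [map_zero, ← h0]
    exact V.left.presheaf.germ_stalkSpecializes_apply (U := ⊤) trivial _ a
  have hyv : y ⤳ v ∨ grm y a = 0 := by
    rcases em (grm y a = 0) with h0 | h0
    · exact Or.inr h0
    · exact Or.inl (hO₁' y ⟨hyc, h0, hu⟩ hy.1)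
  obtain ⟨z₀, hz₀v, h1, hinj, h2, h3⟩ := exists_point_of_prime v π hπp
  have hσ₀ : ∀ r : Γ(V.left, ⊤), V.left.presheaf.stalkSpecializes hz₀v (grm v r) = grm z₀ r := fun r =>
    V.left.presheaf.germ_stalkSpecializes_apply (U := ⊤) trivial hz₀v r
  have hza₀ : ¬ IsUnit (grm z₀ a) := fun h' => h3 (by
    have := hva.map (V.left.presheaf.stalkSpecializes hz₀v).hom
    rw [show (V.left.presheaf.stalkSpecializes hz₀v).hom (grm v a) = grm z₀ a from hσ₀ a] at this
    exact this.symm.isUnit h')
  have key : ∀ y, ∀ hy : y ⤳ v, ¬ IsUnit (grm y a) → CodimOne f y → z₀ = y := fun y hy hu hyc => by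
    have hσy : ∀ r : Γ(V.left, ⊤), V.left.presheaf.stalkSpecializes hy (grm v r) = grm y r := fun r =>
      V.left.presheaf.germ_stalkSpecializes_apply (U := ⊤) trivial hy r
    refine eq_of_specializes_of_codim hfact hyc (specializes_of_isUnit z₀ y fun b hb => ?_) a
      (fun h0 => hane (germ_injective_of_specializes hfact hy (by rw [map_zero, ← h0]; exact hσy a))) hza₀
    rw [← hσ₀]
    refine h1 _ fun hd => hu ?_
    obtain ⟨c, hc⟩ := hva.dvd'.trans hd
    rw [← hσy, hc, map_mul, hσy] at hb
    exact isUnit_of_mul_isUnit_left hb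
  rcases hyv with hyv | h0
  · refine hne ((key y hyv hu hyc).symm.trans (key z hzv (fun h' => ?_) hz))
    exact (maximalIdeal.isMaximal _).ne_top (hτ.trans (Ideal.span_singleton_eq_top.2 (hza.symm.isUnit h')))
  · haveI := (hfact V y).1
    obtain ⟨τy, hτy0, hτy⟩ := exists_uniformizer hfact y hyc
    obtain ⟨P, hP, hPy⟩ : ∃ q : V.left, q ⤳ y ∧ V.hom q = genericPoint X := by
      obtain ⟨q, hq, hqy⟩ := Flat.generalizingMap f ((genericPoint_spec X).specializes (trivial : f y ∈ (⊤ : Set X)))
      exact ⟨q, hq, hqy⟩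
    have hqO : P ∈ O₂ := (hP.mem_open O₂.isOpen hy.2)
    refine hane (germ_injective_of_specializes hfact (hO₂' P hPy hqO) ?_)
    rw [map_zero]
    refine (V.left.presheaf.germ_stalkSpecializes_apply (U := ⊤) trivial _ a).trans ?_
    refine ((V.left.presheaf.germ_stalkSpecializes_apply (U := ⊤) trivial hP a).symm).trans ?_
    exact (congrArg _ h0).trans (map_zero _)

end Groth.L28.DivGen
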