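import Groth.Agent.L28.DivGen.Ord
import Mathlib.CategoryTheory.Limits.ConcreteCategory.Basic

/-!
The cokernel of the units in the rational functions is the sum of the skyscrapers at points of codimension one.
-/

set_option autoImplicit false
set_option linter.style.haveILetI false
set_option linter.unusedSectionVars false
set_option backward.isDefEq.respectTransparency.types false

universe u

open CategoryTheory CategoryTheory.Limits AlgebraicGeometry Opposite IsLocalRing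
open Groth.L27.MV (oE oTop oHom)
open Groth.L28.Sky Groth.L28.Divisor

namespace Groth.L28.DivGen

variable {X : Scheme.{u}}

/-- the points of codimension one -/
abbrev Pt (X : Scheme.{u}) : Type u := {x : ↥X // ringKrullDim (X.presheaf.stalk x) = 1}

/-- the skyscrapers -/
noncomputable abbrev Skyz (X : Scheme.{u}) (x : Pt X) : EtCoh.Ab X :=
  (EtCoh.push (X.fromSpecResidueField x.1)).obj (EtCoh.const (Spec (X.residueField x.1)) ℤ)

section Cofan

variable {ι : Type u} {F : ι → EtCoh.Ab X} (c : Cofan F) (hc : IsColimit c)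

open Classical in
/-- the projections of a coproduct -/
noncomputable def pr (x : ι) : c.pt ⟶ F x :=
  Cofan.IsColimit.desc hc fun x' => if h : x' = x then eqToHom (by rw [h]) else 0

theorem inj_pr_self (x : ι) : c.inj x ≫ pr c hc x = 𝟙 _ := by
  classical
  rw [pr, Cofan.IsColimit.fac, dif_pos rfl, eqToHom_refl]

theorem inj_pr_ne {x x' : ι} (h : x' ≠ x) : c.inj x' ≫ pr c hc x = 0 := by
  classical
  rw [pr, Cofan.IsColimit.fac, dif_neg h]

include hc in
theorem eq_zero_of_pr {Ω : Type u} [Field Ω] [IsSepClosed Ω] (ξ : Spec (CommRingCat.of Ω) ⟶ X)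
    (a : (EtCoh.stalk ξ).obj c.pt) (h : ∀ x, (EtCoh.stalk ξ).map (pr c hc x) a = 0) : a = 0 := by
  classical
  let E : ι → ((EtCoh.stalk ξ).obj c.pt →+ (EtCoh.stalk ξ).obj c.pt) := fun x =>
    ((EtCoh.stalk ξ).map (c.inj x)).hom.comp ((EtCoh.stalk ξ).map (pr c hc x)).hom
  let H : AddSubgroup ((EtCoh.stalk ξ).obj c.pt) :=
    { carrier := {a | ∃ S : Finset ι, a = ∑ x ∈ S, E x a ∧ ∀ x ∉ S, E x a = 0}
      zero_mem' := ⟨∅, by simp, fun x _ => map_zero _⟩
      add_mem' := fun {a b} ⟨S, hS, hS'⟩ ⟨T, hT, hT'⟩ => ⟨S ∪ T, by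
          rw [Finset.sum_congr rfl (fun x _ => map_add (E x) a b), Finset.sum_add_distrib,
            ← Finset.sum_subset (Finset.subset_union_left (s₂ := T)) (fun x _ hx => hS' x hx),
            ← Finset.sum_subset (Finset.subset_union_right (s₁ := S)) (fun x _ hx => hT' x hx), ← hS, ← hT],
        fun x hx => by
          rw [Finset.mem_union, not_or] at hx
          rw [map_add, hS' x hx.1, hT' x hx.2, add_zero]⟩
      neg_mem' := fun {a} ⟨S, hS, hS'⟩ => ⟨S, by
          rw [Finset.sum_congr rfl (fun x _ => map_neg (E x) a), Finset.sum_neg_distrib, ← hS],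
        fun x hx => by rw [map_neg, hS' x hx, neg_zero]⟩ }
  obtain ⟨S, hS, -⟩ := mem_range_of_cofan ξ hc H (fun i z => by
    have e1 : E i ((EtCoh.stalk ξ).map (c.inj i) z) = (EtCoh.stalk ξ).map (c.inj i) z := by
      show (EtCoh.stalk ξ).map (c.inj i) ((EtCoh.stalk ξ).map (pr c hc i) _) = _
      rw [← ConcreteCategory.comp_apply ((EtCoh.stalk ξ).map (c.inj i)) ((EtCoh.stalk ξ).map (pr c hc i)),
        ← Functor.map_comp, inj_pr_self, CategoryTheory.Functor.map_id]
      rfl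
    refine ⟨{i}, by rw [Finset.sum_singleton, e1], fun x hx => ?_⟩
    show (EtCoh.stalk ξ).map (c.inj x) ((EtCoh.stalk ξ).map (pr c hc x) _) = 0
    rw [← ConcreteCategory.comp_apply ((EtCoh.stalk ξ).map (c.inj i)) ((EtCoh.stalk ξ).map (pr c hc x)),
      ← Functor.map_comp, inj_pr_ne c hc (Ne.symm (Finset.notMem_singleton.1 hx))]
    rw [show (EtCoh.stalk ξ).map (0 : F i ⟶ F x) = 0 from
      haveI : PreservesColimitsOfSize.{0, 0} (EtCoh.stalk ξ) := inferInstance
      haveI : (EtCoh.stalk ξ).Additive := Functor.additive_of_preserves_binary_products _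
      Functor.map_zero _ _ _]
    exact map_zero _) a
  rw [hS]
  refine Finset.sum_eq_zero fun x _ => ?_
  show (EtCoh.stalk ξ).map (c.inj x) ((EtCoh.stalk ξ).map (pr c hc x) a) = 0
  rw [h x]
  exact map_zero _

variable (f : Fan F) (hf : IsLimit f)

include hf in
theorem sec_ext (V : X.Etale) (a b : f.pt.obj.obj (op V))
    (h : ∀ x, (f.proj x).hom.app (op V) a = (f.proj x).hom.app (op V) b) : a = b := by
  let G : EtCoh.Ab X ⥤ AddCommGrpCat.{u + 1} :=
    sheafToPresheaf X.smallEtaleTopology AddCommGrpCat.{u + 1} ⋙ (evaluation X.Etaleᵒᵖ AddCommGrpCat.{u + 1}).obj (op V)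
  exact Concrete.isLimit_ext _ (isLimitOfPreserves G hf) a b fun ⟨x⟩ => h x

/-- from the coproduct to the product -/
noncomputable def θ : c.pt ⟶ f.pt := Fan.IsLimit.lift hf (pr c hc)

theorem θ_proj (x : ι) : θ c hc f hf ≫ f.proj x = pr c hc x := Fan.IsLimit.fac hf _ x

theorem mono_θ : Mono (θ c hc f hf) := by
  refine (Groth.L27.EtSite.mono_iff_stalks _).2 fun Ω _ _ ξ => (injective_iff_map_eq_zero _).2 fun a ha => ?_
  refine eq_zero_of_pr c hc ξ a fun x => ?_
  rw [← θ_proj c hc f hf x, Functor.map_comp, ConcreteCategory.comp_apply, ha]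
  exact map_zero _

theorem app_θ_sum_inj (V : X.Etale) (S : Finset ι) (σ : ∀ x, (F x).obj.obj (op V)) (x : ι)
    (hσ : x ∉ S → σ x = 0) :
    (f.proj x).hom.app (op V) ((θ c hc f hf).hom.app (op V) (∑ x' ∈ S, (c.inj x').hom.app (op V) (σ x'))) = σ x := by
  classical
  rw [← ConcreteCategory.comp_apply]
  show (θ c hc f hf ≫ f.proj x).hom.app (op V) _ = σ x
  rw [θ_proj, map_sum, Finset.sum_eq_single x]
  · exact (ConcreteCategory.comp_apply _ _ _).symm.trans
      (ConcreteCategory.congr_hom (congrArg (fun k : F x ⟶ F x => k.hom.app (op V)) (inj_pr_self c hc x)) (σ x))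
  · intro x' _ hne
    exact (ConcreteCategory.comp_apply _ _ _).symm.trans
      (ConcreteCategory.congr_hom (congrArg (fun k : F x' ⟶ F x => k.hom.app (op V)) (inj_pr_ne c hc hne)) (σ x'))
  · intro hx
    rw [hσ hx, map_zero, map_zero]

end Cofan

variable [AlgebraicGeometry.IsIntegral X] [IsLocallyNoetherian X] (hfact : Fact X) (C : ∀ x : Pt X, UChart x.1)

include hfact in
/-- locally only finitely many orders are non-zero -/
theorem exists_finite {Ω : Type u} [Field Ω] [IsSepClosed Ω] (ξ : Spec (CommRingCat.of Ω) ⟶ X)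
    (V : X.Etale) (y : (Scheme.pointSmallEtale ξ).fiber.obj V) (s : (P X).obj.obj (op V)) :
    ∃ (V' : X.Etale) (g : V' ⟶ V) (y' : (Scheme.pointSmallEtale ξ).fiber.obj V') (S : Finset (Pt X)),
      (Scheme.pointSmallEtale ξ).fiber.map g y' = y ∧
      ∀ x ∉ S, (ordAt (C x)).hom.app (op V') ((proj X).hom.app (op V') ((P X).obj.map g.op s)) = 0 := by
  obtain ⟨_, ⟨(U₀ : X.Opens), hU₀, rfl⟩, hxU₀, -⟩ := X.isBasis_affineOpens.exists_subset_of_mem_open
    (Set.mem_univ (V.hom (y.left.base (default : Spec (CommRingCat.of Ω))))) isOpen_univ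
  obtain ⟨V₀, g, v₀, hA, hgv, hV₀, -, hg⟩ := exists_nbhd V (y.left.base (default : Spec (CommRingCat.of Ω))) hxU₀ ⊤ trivial
  obtain ⟨y', rfl, -⟩ := exists_fiber_lift ξ g y v₀ hgv
  let f : V₀.left → ↥X := fun z => V₀.hom z
  have hfin := (finite_not_unitAt hfact hU₀ hV₀ ((P X).obj.map g.op s)).image f
  have hfin' : {x : Pt X | x.1 ∈ f '' {z | CodimOne (V₀.hom : V₀.left ⟶ X) z ∧ ¬ UnitAt V₀ ((P X).obj.map g.op s) z}}.Finite :=
    hfin.preimage Subtype.val_injective.injOn
  refine ⟨V₀, g, y', hfin'.toFinset, rfl, fun x hx => ordAt_eq_zero _ _ fun z hz => by_contra fun hu => hx ?_⟩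
  exact hfin'.mem_toFinset.2 ⟨z, ⟨by unfold CodimOne; rw [hz]; exact x.2, hu⟩, hz⟩

include hfact in
/-- a section of a skyscraper is at each point a multiple of the order of the uniformiser -/
theorem exists_mult (x : Pt X) (V : X.Etale) (f : (Skyz X x).obj.obj (op V)) (z : V.left) (hz : V.hom z = x.1) :
    ∃ n : ℤ, ∀ (Ω : Type u) [Field Ω] [IsSepClosed Ω] (ξ : Spec (CommRingCat.of Ω) ⟶ X)
      (y : (Scheme.pointSmallEtale ξ).fiber.obj V), y.left.base (default : Spec (CommRingCat.of Ω)) = z →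
      ∀ yU : (Scheme.pointSmallEtale ξ).fiber.obj (oE (C x).U),
        germ ξ V y f = n • (EtCoh.stalk ξ).map (ordAt (C x)) (germ ξ (oE (C x).U) yU (C x).τQ) := by
  obtain ⟨V₁, g, z₁, -, hgz, hV₁, -, hg⟩ := exists_nbhd V z (U := (C x).U) (hz.symm ▸ (C x).hxU) ⊤ trivial
  obtain ⟨e⟩ := Groth.L28.Divisor.exists_to_oE V₁ hV₁
  obtain ⟨Ω, _, _, ξ, hξ⟩ := Groth.L27.EtSite.exists_geometric_point x.1
  have hz₁ : V₁.hom z₁ = x.1 :=
    ((congrArg (fun k : V₁.left ⟶ X => k z₁) (MorphismProperty.Over.w g)).symm.trans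
      ((Scheme.Hom.comp_apply _ _ _).trans (congrArg V.hom hgz))).trans hz
  obtain ⟨y, hy⟩ := Groth.L27.EtSite.exists_fiber ξ V₁ z₁ (hz₁.trans hξ.symm)
  obtain ⟨yU, -⟩ := Groth.L27.EtSite.exists_fiber ξ (oE (C x).U) ⟨x.1, (C x).hxU⟩ hξ.symm
  obtain ⟨w, hw⟩ := (bijective_stalk_ordAt (C x) ξ hξ).2 (germ ξ V₁ y ((Skyz X x).obj.map g.op f))
  obtain ⟨n, rfl⟩ := exists_eq_zsmul_τQ (C x) ξ hξ yU w
  rw [map_zsmul] at hw
  refine ⟨n, fun Ω' _ _ ξ' y' hy' yU' => ?_⟩
  obtain ⟨y₁, rfl, hy₁⟩ := exists_fiber_lift ξ' g y' z₁ (hgz.trans hy'.symm)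
  let σ : (Skyz X x).obj.obj (op V₁) := (Skyz X x).obj.map g.op f -
    n • (ordAt (C x)).hom.app (op V₁) ((Q X).obj.map e.op (C x).τQ)
  have hσ : germ ξ V₁ y σ = 0 := by
    refine (map_sub _ _ _).trans (sub_eq_zero.2 (hw.symm.trans ?_))
    refine Eq.trans ?_ (map_zsmul _ _ _).symm
    exact congrArg (n • ·) ((congrArg _ (germ_τQ_congr (C x) ξ y e yU).symm).trans (stalk_map_germ ξ _ V₁ y _))
  have hσ' := germ_eq_zero_congr σ y y₁ (hy₁.trans hy.symm) hσ
  have h1 := sub_eq_zero.1 ((map_sub _ _ _).symm.trans hσ')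
  rw [← germ_res ξ' g y₁ f]
  refine h1.trans ((map_zsmul _ _ _).trans (congrArg (n • ·) ?_))
  exact (stalk_map_germ ξ' _ V₁ y₁ _).symm.trans (congrArg _ (germ_τQ_congr (C x) ξ' y₁ e yU'))

include hfact in
/-- sections of skyscrapers are locally orders -/
theorem exists_preimage (x : Pt X) {Ω : Type u} [Field Ω] [IsSepClosed Ω] (ξ : Spec (CommRingCat.of Ω) ⟶ X)
    (V : X.Etale) (y : (Scheme.pointSmallEtale ξ).fiber.obj V) (f : (Skyz X x).obj.obj (op V)) :
    ∃ (V' : X.Etale) (g : V' ⟶ V) (y' : (Scheme.pointSmallEtale ξ).fiber.obj V') (s : (P X).obj.obj (op V')),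
      (Scheme.pointSmallEtale ξ).fiber.map g y' = y ∧
      (ordAt (C x)).hom.app (op V') ((proj X).hom.app (op V') s) = (Skyz X x).obj.map g.op f ∧
      ∀ x' ≠ x, (ordAt (C x')).hom.app (op V') ((proj X).hom.app (op V') s) = 0 := by
  classical
  obtain ⟨_, ⟨(U₀ : X.Opens), hU₀, rfl⟩, hxU₀, -⟩ := X.isBasis_affineOpens.exists_subset_of_mem_open
    (Set.mem_univ (V.hom (y.left.base (default : Spec (CommRingCat.of Ω))))) isOpen_univ
  obtain ⟨V₀, g₀, v₀, hA, hgv, hV₀, -, hg₀⟩ := exists_nbhd V (y.left.base (default : Spec (CommRingCat.of Ω))) hxU₀ ⊤ trivial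
  obtain ⟨y₀, rfl, hy₀⟩ := exists_fiber_lift ξ g₀ y v₀ hgv
  let h₀ : V₀.left ⟶ X := V₀.hom
  haveI : AlgebraicGeometry.Etale h₀ := V₀.prop
  haveI : LocallyQuasiFinite h₀ := inferInstance
  haveI : CompactSpace V₀.left := isCompact_univ_iff.1 (isAffineOpen_top V₀.left).isCompact
  haveI : QuasiCompact h₀ := inferInstance
  let f₀ := (Skyz X x).obj.map g₀.op f
  obtain ⟨O₀, hvO₀, hO₀⟩ := exists_open_specializes v₀ (h₀.finite_preimage_singleton x.1)
  have hsfin : {z : V₀.left | h₀ z = x.1 ∧ z ⤳ v₀}.Finite :=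
    (h₀.finite_preimage_singleton x.1).subset fun z hz => hz.1
  let Z := hsfin.toFinset
  have hZ : ∀ z : Z, h₀ z.1 = x.1 ∧ z.1 ⤳ v₀ := fun z => hsfin.mem_toFinset.1 z.2
  choose Oz a hvOz hmax hgen hunit using fun z : Z => exists_equation hfact v₀ z.1 (hZ z).2
    (show CodimOne h₀ z.1 by unfold CodimOne; rw [(hZ z).1]; exact x.2)
  choose n hn using fun z : Z => exists_mult hfact C x V₀ f₀ z.1 (hZ z).1
  have hvW : v₀ ∈ O₀ ⊓ Finset.univ.inf Oz := ⟨hvO₀, Finset.inf_induction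
    (p := fun O : V₀.left.Opens => v₀ ∈ O) trivial (fun O₁ h1 O₂ h2 => ⟨h1, h2⟩) fun z _ => hvOz z⟩
  obtain ⟨V', g, v', hA', hgv', hV', hgO, hg⟩ := exists_nbhd V₀ v₀ (U := U₀) (hV₀ trivial) _ hvW
  haveI : IsOpenImmersion g.left := hg
  obtain ⟨y', rfl, -⟩ := exists_fiber_lift ξ g y₀ v' (hgv'.trans hy₀.symm)
  have hres : ∀ z : Z, IsUnit (res (X := X) (W := V'.left) V'.hom (g.left.appTop (a z))) := fun z =>
    isUnit_res_of_ne_zero hfact V' _ fun q hq h0 => by
      rw [grm_appTop] at h0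
      refine hgen z (g.left q) ((show Finset.univ.inf Oz ≤ Oz z from Finset.inf_le (Finset.mem_univ z)) (hgO (trivial : q ∈ (⊤ : V'.left.Opens))).2) ?_
        ((ConcreteCategory.bijective_of_isIso (g.left.stalkMap q)).1 (h0.trans (map_zero _).symm))
      exact ((Scheme.Hom.comp_apply _ _ _).symm.trans
        (congrArg (fun k : V'.left ⟶ X => k q) (MorphismProperty.Over.w g))).trans hq
  let s : (P X).obj.obj (op V') := ∑ z : Z, n z • mkU (hres z).unit
  have hgerm : ∀ (Ω' : Type u) [Field Ω'] [IsSepClosed Ω'] (ξ' : Spec (CommRingCat.of Ω') ⟶ X) (x' : Pt X),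
      ξ'.base default = x'.1 → ∀ (w : (Scheme.pointSmallEtale ξ').fiber.obj V')
      (yU : (Scheme.pointSmallEtale ξ').fiber.obj (oE (C x').U)) (z : Z),
      germ ξ' V' w ((proj X).hom.app (op V') (mkU (hres z).unit)) =
        if g.left (w.left.base (default : Spec (CommRingCat.of Ω'))) = z.1 then germ ξ' (oE (C x').U) yU (C x').τQ else 0 := by
    intro Ω' _ _ ξ' x' hξ' w yU z
    let p := w.left.base (default : Spec (CommRingCat.of Ω'))
    have hp : V'.hom p = x'.1 := (Groth.L27.EtSite.fiber_apply w).trans hξ'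
    split_ifs with hpz
    · haveI := (hfact V' p).1
      refine germ_mkU_eq_τQ (C x') ξ' hξ' yU w (g.left.appTop (a z)) ?_ (hres z)
      have hm : maximalIdeal (V₀.left.presheaf.stalk (g.left p)) = Ideal.span {grm (W := V₀.left) (g.left p) (a z)} := by
        rw [hpz]; exact hmax z
      rw [grm_appTop, ← Groth.L21.CurvFib.map_maximalIdeal_stalkMap_of_etale g.left p, hm, Ideal.map_span,
        Set.image_singleton]
    · refine (germ_proj_eq_zero_iff ξ' w _).2 ?_
      have hu : IsUnit (grm (W := V'.left) p (g.left.appTop (a z))) := by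
        rw [grm_appTop]
        refine (hunit z (g.left p) ((show Finset.univ.inf Oz ≤ Oz z from Finset.inf_le (Finset.mem_univ z)) (hgO (trivial : p ∈ (⊤ : V'.left.Opens))).2) ?_ hpz).map _
        unfold CodimOne
        rw [((Scheme.Hom.comp_apply _ _ _).symm.trans
          (congrArg (fun k : V'.left ⟶ X => k p) (MorphismProperty.Over.w g))).trans hp]
        exact x'.2
      have hfr : IsFrac V' (mkU (hres z).unit) (g.left.appTop (a z)) 1 :=
        ⟨by rw [map_one, mul_one]; exact (hres z).unit_spec, by rw [map_one]; exact isUnit_one⟩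
      obtain ⟨V'', g'', v'', c, h1, -, h2⟩ := exists_open_of_associated V' hfr p
        (by rw [map_one]; exact (associated_one_iff_isUnit.2 hu).symm)
      exact ⟨V'', g'', v'', c, h1, h2⟩
  have hsum : ∀ (Ω' : Type u) [Field Ω'] [IsSepClosed Ω'] (ξ' : Spec (CommRingCat.of Ω') ⟶ X)
      (w : (Scheme.pointSmallEtale ξ').fiber.obj V'),
      germ ξ' V' w ((proj X).hom.app (op V') s) =
        ∑ z : Z, n z • germ ξ' V' w ((proj X).hom.app (op V') (mkU (hres z).unit)) := fun Ω' _ _ ξ' w => by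
    simp only [s, map_sum]
    exact Finset.sum_congr rfl fun z _ => (congrArg _ (map_zsmul _ _ _)).trans (map_zsmul _ _ _)
  refine ⟨V', g ≫ g₀, y', s, Functor.map_comp_apply _ _ _ _, push_ext _ _ fun Ω' _ _ ξ' hξ' w => ?_, fun x' hne => ?_⟩
  · obtain ⟨yU, -⟩ := Groth.L27.EtSite.exists_fiber ξ' (oE (C x).U) ⟨x.1, (C x).hxU⟩ hξ'.symm
    let p := w.left.base (default : Spec (CommRingCat.of Ω'))
    have hp : h₀ (g.left p) = x.1 :=
      ((Scheme.Hom.comp_apply _ _ _).symm.trans (congrArg (fun k : V'.left ⟶ X => k p) (MorphismProperty.Over.w g))).trans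
        ((Groth.L27.EtSite.fiber_apply w).trans hξ')
    let z₀ : Z := ⟨g.left p, hsfin.mem_toFinset.2 ⟨hp, hO₀ _ hp (hgO (trivial : p ∈ (⊤ : V'.left.Opens))).1⟩⟩
    rw [← stalk_map_germ, hsum, Finset.sum_eq_single z₀]
    · rw [hgerm Ω' ξ' x hξ' w yU z₀, if_pos rfl, map_zsmul, ← hn z₀ Ω' ξ'
        ((Scheme.pointSmallEtale ξ').fiber.map g w) rfl yU, op_comp, Functor.map_comp_apply, germ_res]
      exact ((germ_res ξ' g w _).trans (germ_res ξ' g₀ _ f)).symm
    · intro z _ hne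
      rw [hgerm Ω' ξ' x hξ' w yU z, if_neg fun h => hne (Subtype.ext h.symm), smul_zero]
    · exact fun h => absurd (Finset.mem_univ _) h
  · refine push_ext _ _ fun Ω' _ _ ξ' hξ' w => ?_
    obtain ⟨yU, -⟩ := Groth.L27.EtSite.exists_fiber ξ' (oE (C x').U) ⟨x'.1, (C x').hxU⟩ hξ'.symm
    rw [← stalk_map_germ, hsum, Finset.sum_eq_zero fun z _ => ?_, map_zero]
    · exact (map_zero _).symm
    rw [hgerm Ω' ξ' x' hξ' w yU z, if_neg fun h => hne (Subtype.ext ?_), smul_zero]
    have hp : h₀ (g.left (w.left.base (default : Spec (CommRingCat.of Ω')))) = x'.1 :=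
      ((Scheme.Hom.comp_apply _ _ _).symm.trans (congrArg (fun k : V'.left ⟶ X => k _) (MorphismProperty.Over.w g))).trans
        ((Groth.L27.EtSite.fiber_apply w).trans hξ')
    rw [← hp, h]
    exact (hZ z).1

section Iso

variable (c : Cofan (Skyz X)) (hc : IsColimit c) (f : Fan (Skyz X)) (hf : IsLimit f)

/-- all orders at once -/
noncomputable def ord : Q X ⟶ f.pt := Fan.IsLimit.lift hf fun x => ordAt (C x)

theorem proj_ord (x : Pt X) : ord C f hf ≫ f.proj x = ordAt (C x) := Fan.IsLimit.fac hf _ x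

theorem app_proj_ord (x : Pt X) (V : X.Etale) (q : (Q X).obj.obj (op V)) :
    (f.proj x).hom.app (op V) ((ord C f hf).hom.app (op V) q) = (ordAt (C x)).hom.app (op V) q :=
  (ConcreteCategory.comp_apply _ _ _).symm.trans
    (ConcreteCategory.congr_hom (congrArg (fun k : Q X ⟶ Skyz X x => k.hom.app (op V)) (proj_ord C f hf x)) q)

include hfact in
theorem mono_ord : Mono (ord C f hf) := by
  refine (Groth.L27.EtSite.mono_iff_stalks _).2 fun Ω _ _ ξ => (injective_iff_map_eq_zero _).2 fun q hq => ?_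
  haveI : Epi (proj X) := inferInstanceAs (Epi (cokernel.π (φ X)))
  obtain ⟨z', rfl⟩ := (Groth.L27.EtSite.epi_iff_stalks (proj X)).1 inferInstance Ω ξ q
  obtain ⟨V, y, s, rfl⟩ := (Scheme.pointSmallEtale ξ).toPresheafFiber_jointly_surjective z'
  change (EtCoh.stalk ξ).map (ord C f hf) ((EtCoh.stalk ξ).map (proj X) (germ ξ V y s)) = 0 at hq
  show (EtCoh.stalk ξ).map (proj X) (germ ξ V y s) = 0
  rw [stalk_map_germ, stalk_map_germ] at hq
  obtain ⟨V₁, g₁, y₁, hy₁, he⟩ := ((Scheme.pointSmallEtale ξ).toPresheafFiber_eq_iff' _ _ _ _).1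
    (hq.trans (map_zero _).symm)
  obtain ⟨_, ⟨(U₀ : X.Opens), hU₀, rfl⟩, hxU₀, -⟩ := X.isBasis_affineOpens.exists_subset_of_mem_open
    (Set.mem_univ (V₁.hom (y₁.left.base (default : Spec (CommRingCat.of Ω))))) isOpen_univ
  obtain ⟨V₂, g₂, v₂, hA, hgv, hV₂, -, hg₂⟩ := exists_nbhd V₁ (y₁.left.base (default : Spec (CommRingCat.of Ω))) hxU₀ ⊤ trivial
  obtain ⟨y₂, rfl, hy₂⟩ := exists_fiber_lift ξ g₂ y₁ v₂ hgv
  let s₂ := (P X).obj.map (g₂ ≫ g₁).op s
  have h0 : ∀ x : Pt X, (ordAt (C x)).hom.app (op V₂) ((proj X).hom.app (op V₂) s₂) = 0 := fun x => by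
    rw [← app_proj_ord C f hf, NatTrans.naturality_apply (proj X).hom, NatTrans.naturality_apply (ord C f hf).hom,
      op_comp, Functor.map_comp_apply, he, map_zero, map_zero, map_zero]
  obtain ⟨V', g, v', c', hv', hg, hc'⟩ := exists_open_of_forall_unitAt hfact hU₀ hV₂ s₂ v₂ fun z _ hz => by
    let x : Pt X := ⟨V₂.hom z, hz⟩
    obtain ⟨Ω', _, _, ξ', hξ'⟩ := Groth.L27.EtSite.exists_geometric_point x.1
    obtain ⟨w, hw⟩ := Groth.L27.EtSite.exists_fiber ξ' V₂ z hξ'.symm
    rw [← hw]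
    refine (germ_proj_eq_zero_iff ξ' w s₂).1 ((bijective_stalk_ordAt (C x) ξ' hξ').1 ?_)
    rw [stalk_map_germ, h0, map_zero]
    exact map_zero _
  obtain ⟨y', rfl, -⟩ := exists_fiber_lift ξ g y₂ v' (hv'.trans hy₂.symm)
  rw [← hy₁, stalk_map_germ, ← germ_res, ← germ_res, ← germ_res, ← Functor.map_comp_apply ((Q X).obj) g₁.op g₂.op,
    ← op_comp, ← NatTrans.naturality_apply (proj X).hom (g₂ ≫ g₁).op, ← NatTrans.naturality_apply (proj X).hom g.op,
    hc', Groth.L28.Divisor.proj_φ]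
  exact map_zero _

include hfact in
theorem ord_comp_cokernel : ord C f hf ≫ cokernel.π (θ c hc f hf) = 0 := by
  refine Sheaf.hom_ext (NatTrans.ext (funext fun W => ConcreteCategory.hom_ext _ _ fun q => ?_))
  refine eq_zero_of_germs (U := W.unop) _ fun Ω _ _ ξ yW => ?_
  show germ ξ W.unop yW ((ord C f hf ≫ cokernel.π (θ c hc f hf)).hom.app W q) = 0
  rw [← stalk_map_germ]
  haveI : Epi (proj X) := inferInstanceAs (Epi (cokernel.π (φ X)))
  obtain ⟨z', hz'⟩ := (Groth.L27.EtSite.epi_iff_stalks (proj X)).1 inferInstance Ω ξ (germ ξ W.unop yW q)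
  rw [← hz']
  obtain ⟨V, y, s, rfl⟩ := (Scheme.pointSmallEtale ξ).toPresheafFiber_jointly_surjective z'
  obtain ⟨V', g, y', S, rfl, hS⟩ := exists_finite hfact C ξ V y s
  show (EtCoh.stalk ξ).map _ ((EtCoh.stalk ξ).map (proj X) (germ ξ V _ s)) = 0
  rw [← germ_res ξ g y' s, stalk_map_germ, stalk_map_germ]
  let q' := (proj X).hom.app (op V') ((P X).obj.map g.op s)
  have hq' : (ord C f hf).hom.app (op V') q' = (θ c hc f hf).hom.app (op V')
      (∑ x ∈ S, (c.inj x).hom.app (op V') ((ordAt (C x)).hom.app (op V') q')) := by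
    refine sec_ext f hf V' _ _ fun x => ?_
    rw [app_proj_ord]
    exact (app_θ_sum_inj c hc f hf V' S (fun x => (ordAt (C x)).hom.app (op V') q') x (hS x)).symm
  refine (congrArg (germ ξ V' y') ?_).trans (map_zero _)
  show (cokernel.π (θ c hc f hf)).hom.app (op V') ((ord C f hf).hom.app (op V') q') = 0
  rw [hq', ← ConcreteCategory.comp_apply]
  exact ConcreteCategory.congr_hom (congrArg (fun k : c.pt ⟶ cokernel (θ c hc f hf) => k.hom.app (op V'))
    (cokernel.condition _)) _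

include hfact hc C f hf in
theorem nonempty_iso : Nonempty (Q X ≅ c.pt) := by
  haveI := mono_θ c hc f hf
  let Ψ := Abelian.monoLift (θ c hc f hf) (ord C f hf) (ord_comp_cokernel hfact C c hc f hf)
  have hΨ : Ψ ≫ θ c hc f hf = ord C f hf := Abelian.monoLift_comp _ _ _
  haveI : Mono Ψ := by
    haveI := mono_ord hfact C f hf
    haveI : Mono (Ψ ≫ θ c hc f hf) := by rw [hΨ]; infer_instance
    exact mono_of_mono Ψ (θ c hc f hf)
  haveI : Epi Ψ := by
    refine (Groth.L27.EtSite.epi_iff_stalks _).2 fun Ω _ _ ξ z => ?_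
    refine mem_range_of_cofan ξ hc ((EtCoh.stalk ξ).map Ψ).hom.range (fun x b => ?_) z
    obtain ⟨V, y, b', rfl⟩ := (Scheme.pointSmallEtale ξ).toPresheafFiber_jointly_surjective b
    obtain ⟨V', g, y', s, rfl, h1, h2⟩ := exists_preimage hfact C x ξ V y b'
    refine ⟨germ ξ V' y' ((proj X).hom.app (op V') s), ?_⟩
    show (EtCoh.stalk ξ).map Ψ _ = (EtCoh.stalk ξ).map (c.inj x) (germ ξ V _ b')
    rw [← germ_res ξ g y' b']
    refine ((Groth.L27.EtSite.mono_iff_stalks (θ c hc f hf)).1 inferInstance Ω ξ) ?_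
    rw [← ConcreteCategory.comp_apply, ← Functor.map_comp, hΨ, stalk_map_germ, stalk_map_germ, stalk_map_germ]
    refine congrArg (germ ξ V' y') (sec_ext f hf V' _ _ fun x' => ?_)
    rw [app_proj_ord]
    have h := app_θ_sum_inj c hc f hf V' {x} (fun i => (ordAt (C i)).hom.app (op V') ((proj X).hom.app (op V') s)) x'
      (fun hx => h2 x' (Finset.notMem_singleton.1 hx))
    rw [Finset.sum_singleton, h1] at h
    exact h.symm
  exact ⟨@asIso _ _ _ _ Ψ (isIso_of_mono_of_epi _)⟩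

end Iso

include hfact in
/-- the cokernel of the units is the sum of the skyscrapers at the points of codimension one -/
theorem nonempty_cokernel_iso (c : Cofan (Skyz X)) (hc : IsColimit c) : Nonempty (cokernel (φ X) ≅ c.pt) := by
  let C : ∀ x : Pt X, UChart x.1 := fun x => (nonempty_uchart hfact x.1 x.2).some
  haveI : HasLimitsOfSize.{u, u} (EtCoh.Ab X) := hasLimitsOfSizeShrink.{u, u, u + 1, u + 1} _
  exact nonempty_iso hfact C c hc (limit.cone _) (limit.isLimit _)

end Groth.L28.DivGen
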