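import Groth.Agent.L28.Divisor.Sheaf
import Groth.Agent.L28.DivGen.HeightOne

/-!
Rational functions which are units near a point of an étale scheme.
-/

set_option autoImplicit false
set_option linter.style.haveILetI false
set_option linter.unusedSectionVars false
set_option backward.isDefEq.respectTransparency.types false

universe u

open CategoryTheory CategoryTheory.Limits AlgebraicGeometry Opposite IsLocalRing
open Groth.L28.Divisor

namespace Groth.L28.DivGen

variable {X : Scheme.{u}} [AlgebraicGeometry.IsIntegral X]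

/-- being a unit near a point after an étale extension -/
def UnitAt (V : X.Etale) (s : (P X).obj.obj (op V)) (v : V.left) : Prop :=
  ∃ (V' : X.Etale) (g : V' ⟶ V) (v' : V'.left) (c : (EtCoh.Gm X).obj.obj (op V')),
    g.left v' = v ∧ (P X).obj.map g.op s = (φ X).hom.app (op V') c

/-- the function on the generic fibre underlying a section -/
noncomputable def valP {V : X.Etale} (s : (P X).obj.obj (op V)) :
    Γ(pullback (X := V.left) (Y := Spec (X.presheaf.stalk (genericPoint X))) V.hom (gen X), ⊤) := val s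

/-- a fraction representing a rational function -/
structure IsFrac (V : X.Etale) (s : (P X).obj.obj (op V)) (b a : Γ(V.left, ⊤)) : Prop where
  eq : valP s * res (X := X) (W := V.left) V.hom a = res (X := X) (W := V.left) V.hom b
  isUnit : IsUnit (res (X := X) (W := V.left) V.hom a)

variable {U : X.Opens} (hU : IsAffineOpen U)

include hU in
theorem exists_isFrac (V : X.Etale) [IsAffine V.left] (hV : ⊤ ≤ (V.hom : V.left ⟶ X) ⁻¹ᵁ U)
    (s : (P X).obj.obj (op V)) [Nonempty U] : ∃ b a, IsFrac V s b a ∧ ∀ w, grm (W := V.left) w b ≠ 0 ∧ grm (W := V.left) w a ≠ 0 := by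
  let v : V.left ⟶ X := V.hom
  haveI : AlgebraicGeometry.Etale v := V.prop
  obtain ⟨b, a, ha, hab⟩ := (exists_frac hU v hV).1 (valP s)
  obtain ⟨s', hs'⟩ := (show IsUnit (valP s) from isUnit_val s).exists_right_inv
  obtain ⟨b', a', ha', hab'⟩ := (exists_frac hU v hV).1 s'
  refine ⟨b, str v hV a, ⟨hab, (exists_frac hU v hV).2.2 a ha⟩, fun w => ⟨fun h0 => ?_, fun h0 => ?_⟩⟩
  · have h1 : res v (str v hV a * str v hV a') = res v (b * b') := by
      rw [map_mul, map_mul, ← hab, ← hab', mul_mul_mul_comm, hs', one_mul]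
    have h2 := grm_eq_of_res hU v hV w h1
    rw [map_mul, map_mul, h0, zero_mul] at h2
    have h3 := isSMulRegular_grm_str hU v hV w ha _ h2
    exact one_ne_zero (α := V.left.presheaf.stalk w) (isSMulRegular_grm_str hU v hV w ha' 1 ((mul_one _).trans h3))
  · exact one_ne_zero (α := V.left.presheaf.stalk w) (isSMulRegular_grm_str hU v hV w ha 1 ((mul_one _).trans h0))

include hU in
theorem dvd_of_unitAt (V : X.Etale) (hV : ⊤ ≤ (V.hom : V.left ⟶ X) ⁻¹ᵁ U) {s : (P X).obj.obj (op V)}
    {b a : Γ(V.left, ⊤)} (hf : IsFrac V s b a) (v : V.left) (h : UnitAt V s v) :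
    grm (W := V.left) v a ∣ grm (W := V.left) v b ∧ grm (W := V.left) v b ∣ grm (W := V.left) v a := by
  obtain ⟨V', g, v', c, rfl, hc⟩ := h
  have hxU : V'.hom v' ∈ U := by
    rw [← MorphismProperty.Over.w g]; exact hV trivial
  obtain ⟨W, k, w, hA, hkw, hW, -, -⟩ := exists_nbhd V' v' hxU ⊤ trivial
  let hWm : W.left ⟶ X := W.hom
  haveI : AlgebraicGeometry.Etale hWm := W.prop
  let G : W.left ⟶ V.left := (k ≫ g).left
  let hVm : V.left ⟶ X := V.hom
  haveI : AlgebraicGeometry.Etale hVm := V.prop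
  haveI : AlgebraicGeometry.Etale (G ≫ hVm) := by
    rw [show G ≫ hVm = hWm from MorphismProperty.Over.w (k ≫ g)]; infer_instance
  haveI : AlgebraicGeometry.Etale G :=
    MorphismProperty.of_postcomp (W := @AlgebraicGeometry.Etale) (W' := @AlgebraicGeometry.Etale) G hVm inferInstance inferInstance
  let r := res (X := X) (W := W.left) W.hom
  let c' := (EtCoh.Gm X).obj.map k.op c
  have hc' : (P X).obj.map (k ≫ g).op s = (φ X).hom.app (op W) c' := by
    rw [op_comp, Functor.map_comp_apply, hc, ← NatTrans.naturality_apply]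
  have e1 : ((EtCoh.bc (gen X)).map (k ≫ g)).left.appTop (valP s) = r (val (W := W.left) c') :=
    (val_push_map (k ≫ g) s).symm.trans ((congrArg val hc').trans (val_φ c'))
  have e2 := (map_mul ((EtCoh.bc (gen X)).map (k ≫ g)).left.appTop.hom _ _).symm.trans
    (congrArg (((EtCoh.bc (gen X)).map (k ≫ g)).left.appTop) hf.eq)
  have e3 : r (val (W := W.left) c' * G.appTop a) = r (G.appTop b) := by
    rw [map_mul, ← e1]
    exact (congrArg (_ * ·) (bc_res (k ≫ g) a).symm).trans (e2.trans (bc_res (k ≫ g) b))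
  have e4 := grm_eq_of_res hU hWm hW w e3
  rw [map_mul] at e4
  have hu : IsUnit (grm (W := W.left) w (val (W := W.left) c')) := (isUnit_val _).map _
  have hG : ∀ t, grm (W := W.left) w (G.appTop t) = G.stalkMap w (grm (W := V.left) (G w) t) := fun t =>
    (Scheme.Hom.germ_stalkMap_apply G ⊤ w trivial t).symm
  rw [hG, hG] at e4
  have hGw : G w = g.left v' := by
    rw [← hkw]
    exact Scheme.Hom.comp_apply k.left g.left w
  suffices h : grm (W := V.left) (G w) a ∣ grm (W := V.left) (G w) b ∧ grm (W := V.left) (G w) b ∣ grm (W := V.left) (G w) a by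
    rw [hGw] at h; exact h
  refine ⟨dvd_of_map_dvd (G.stalkMap w).hom (Flat.stalkMap G w) ?_,
    dvd_of_map_dvd (G.stalkMap w).hom (Flat.stalkMap G w) ?_⟩
  · exact ⟨_, e4.symm.trans (mul_comm _ _)⟩
  · exact (hu.dvd_mul_left).1 (e4 ▸ dvd_rfl)

theorem isUnit_res_of_isUnit {W : Scheme.{u}} (v : W ⟶ X) {a : Γ(W, ⊤)} (h : IsUnit a) : IsUnit (res v a) :=
  h.map _

/-- a rational function whose numerator and denominator are associated is a unit on a neighbourhood -/
theorem exists_open_of_associated (V : X.Etale) {s : (P X).obj.obj (op V)}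
    {b a : Γ(V.left, ⊤)} (hf : IsFrac V s b a) (v : V.left)
    (hd : Associated (grm (W := V.left) v a) (grm (W := V.left) v b)) :
    ∃ (V' : X.Etale) (g : V' ⟶ V) (v' : V'.left) (c : (EtCoh.Gm X).obj.obj (op V')),
      g.left v' = v ∧ IsOpenImmersion g.left ∧ (P X).obj.map g.op s = (φ X).hom.app (op V') c := by
  obtain ⟨e, he⟩ := hd
  obtain ⟨O₁, hO₁, e₁, he₁⟩ := V.left.presheaf.exists_germ_eq (e : V.left.presheaf.stalk v)
  let O₀ := V.left.basicOpen e₁
  have hO₀ : v ∈ O₀ := (V.left.mem_basicOpen e₁ v hO₁).2 (he₁ ▸ e.isUnit)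
  let e₀ := V.left.presheaf.map (homOfLE (V.left.basicOpen_le e₁)).op e₁
  have hg : V.left.presheaf.germ O₀ v hO₀ (V.left.presheaf.map (homOfLE (le_top : O₀ ≤ ⊤)).op a * e₀) =
      V.left.presheaf.germ O₀ v hO₀ (V.left.presheaf.map (homOfLE (le_top : O₀ ≤ ⊤)).op b) := by
    rw [map_mul, V.left.presheaf.germ_res_apply, V.left.presheaf.germ_res_apply, V.left.presheaf.germ_res_apply, he₁]
    exact he
  obtain ⟨(O : V.left.Opens), hO, i, i', hOe⟩ := V.left.presheaf.germ_eq v hO₀ hO₀ _ _ hg
  rw [show i' = i from Subsingleton.elim _ _, map_mul] at hOe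
  have hh : ∀ x : Γ(V.left, ⊤), V.left.presheaf.map i.op (V.left.presheaf.map (homOfLE (le_top : O₀ ≤ ⊤)).op x) =
      V.left.presheaf.map (homOfLE (le_top : O ≤ ⊤)).op x := fun x => by
    rw [← ConcreteCategory.comp_apply, ← Functor.map_comp]
    rfl
  rw [hh, hh] at hOe
  let hVm : V.left ⟶ X := V.hom
  haveI : AlgebraicGeometry.Etale hVm := V.prop
  let V' : X.Etale := Scheme.Etale.mk (O.ι ≫ hVm)
  let g : V' ⟶ V := MorphismProperty.Over.homMk O.ι rfl
  have he₀ : IsUnit e₀ := RingedSpace.isUnit_res_basicOpen V.left.toRingedSpace e₁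
  have hu : IsUnit (O.topIso.inv (V.left.presheaf.map i.op e₀)) :=
    (he₀.map (V.left.presheaf.map i.op).hom).map O.topIso.inv.hom
  refine ⟨V', g, ⟨v, hO⟩, mkU (W := V'.left) hu.unit, rfl, show IsOpenImmersion O.ι from inferInstance, val_inj ?_⟩
  let r := res (X := X) (W := V'.left) V'.hom
  let M : Γ(pullback (X := V.left) (Y := Spec (X.presheaf.stalk (genericPoint X))) V.hom (gen X), ⊤) ⟶
      Γ(pullback (X := V'.left) (Y := Spec (X.presheaf.stalk (genericPoint X))) V'.hom (gen X), ⊤) :=
    ((EtCoh.bc (gen X)).map g).left.appTop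
  refine (val_push_map g s).trans (Eq.trans ?_ (val_φ (V := V') _).symm)
  have e1 : M (valP s) * r (O.ι.appTop a) = r (O.ι.appTop b) := by
    have e2 := (map_mul M.hom _ _).symm.trans (congrArg M hf.eq)
    have ka : M (res (X := X) (W := V.left) V.hom a) = r (O.ι.appTop a) := bc_res g a
    have kb : M (res (X := X) (W := V.left) V.hom b) = r (O.ι.appTop b) := bc_res g b
    rw [← ka, ← kb]
    exact e2
  have e3 : r (O.ι.appTop a) * r (O.topIso.inv (V.left.presheaf.map i.op e₀)) = r (O.ι.appTop b) := by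
    rw [ι_appTop_eq O a _ rfl, ι_appTop_eq O b _ rfl, ← hOe, map_mul]
    exact (map_mul r _ _).symm
  have hur : IsUnit (r (O.ι.appTop a)) := by
    have := hf.isUnit.map M.hom
    have ka : M (res (X := X) (W := V.left) V.hom a) = r (O.ι.appTop a) := bc_res g a
    exact ka ▸ this
  refine hur.mul_left_inj.1 (e1.trans ?_)
  rw [← e3, mul_comm]
  exact congrArg (· * _) (congrArg r hu.unit_spec.symm)

end Groth.L28.DivGen
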